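import Cfsg.Agent.BlocksB.QuatDefect.Expand
import Cfsg.Agent.BlocksB.DihedralDefect.Main
import Cfsg.Agent.BlocksB.KleinDefect.Relations
import Cfsg.Agent.BlocksB.CentralQuotientBound
import Cfsg.Agent.Blocks.NormalSub

/-!
# A block with quaternion defect group whose central involution is central in the group

The members trivial on the involution are counted once along the subsections and once in the
quotient, where the defect group is dihedral.
-/

set_option autoImplicit false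
set_option linter.style.haveILetI false
set_option linter.unusedSectionVars false

namespace CfsgLib.QuatDefect

open Cfsg Finset CfsgLib.Block CfsgLib.Block.Chr CfsgLib.BrauerPairs CfsgLib.BlockStar
  CfsgLib.BlockB CfsgLib.Char
open scoped ComplexConjugate
open scoped Classical

universe u

variable {M : Ideal AlgInt} [M.IsPrime] [Fact (Nat.Prime 2)] [CharP (Residue M) 2]
  {G : Type u} [Group G] [Fintype G]

local notation "𝕜" => Residue M
local notation "Z[" x "]" => Subgroup.zpowers x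
local notation "C[" Q "]" => Subgroup.centralizer (SetLike.coe Q)

/-- A block whose defect group is a four-group has four members. -/
theorem card_of_klein (hM : IsPModular 2 M) {B : Set (IrrCharacter G)} (hB : IsPBlock M B)
    {P : Subgroup G} (hP : IsDefectGroup 2 M B P) (hV : IsKleinFour P) : Nat.card B = 4 := by
  haveI : Fintype P := Fintype.ofFinite P
  haveI : Fintype B := Fintype.ofFinite B
  haveI : Fintype C[P] := Fintype.ofFinite _
  obtain ⟨e, hmax⟩ := exists_isMaxPair (isBlk_idem hM hB) (isDef_of_isDefectGroup hM hB hP)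
  obtain ⟨c, hc, rfl⟩ := exists_idemIn_eq hM (show IsBlk 𝕜 C[P] e from hmax.1.1.2)
  have hab := KleinDefect.commute_klein hV
  have hind : IsInducedBlock M C[P] c B := isInducedBlock_of_isBrauerPairOf hM
    (fun x hx => Subgroup.mem_centralizer_iff.2 fun y hy => hab y hy x hx)
    ((isBrauerPairOf_iff hM).2 ⟨⟨hmax.1.1.1, hc⟩, hB, hmax.1⟩)
  have S : KleinDefect.KleinData (M := M) B P c
      ((C[P] : Subgroup G).relIndex (stab P (idemIn M C[P] c))) :=
    ⟨hM, hB, hP, hV, hind, rfl⟩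
  obtain ⟨a, V, hpm⟩ := S.exists_kleinVals
  exact KleinDefect.KleinVals.card_block S V hpm

variable {B : Set (IrrCharacter G)} {D : Subgroup G} {e : MonoidAlgebra (Residue M) G}
  {σ τ : G} {h : ℕ}

namespace QuatData

variable (S : QuatData (M := M) B D e σ τ h)
include S

/-- Carried elements have the same contributions. -/
theorem ctr_fus {u v : G} (hu : u ∈ D) (hf : Fus D e u v) (χ ψ : IrrCharacter G) :
    ctr D e u χ ψ = ctr D e v χ ψ := by
  obtain ⟨g, hg, hgf⟩ := hf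
  have h1 := contribR_conj S.hM χ ψ (mem_pSet_of_mem S.pair hu) (S.rep_blk hu) g
  rw [ctr, ctr, ← h1, hg, hgf]

theorem subBlk_eq_idem {v : G} (hv : v ∈ D) (htop : C[Z[v]] = (⊤ : Subgroup G)) :
    subBlk 2 D e v = idem M B :=
  eq_idem_of_pair S.hM S.hB htop (S.rep_blk hv)
    ((isPairOf_iff_of_ple (isBlk_idem S.hM S.hB) (subBlk_ple S.pair hv) S.pair).2 S.hmax.1)

section central

variable (hzc : ∀ g : G, σ ^ h * g = g * σ ^ h)
include hzc

theorem centralizer_z : C[Z[σ ^ h]] = (⊤ : Subgroup G) :=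
  eq_top_iff.2 fun g _ => mem_cz.2 (hzc g).symm

/-- The central involution acts by signs. -/
theorem exists_sign : ∃ c : IrrCharacter G → ℂ,
    (∀ χ, c χ = 1 ∨ c χ = -1) ∧ ∀ (χ : IrrCharacter G) g, (χ : G → ℂ) (σ ^ h * g) = c χ * (χ : G → ℂ) g := by
  choose c _ hc using fun χ : IrrCharacter G => exists_central_scalar χ.2 hzc
  refine ⟨c, fun χ => mul_self_eq_one_iff.1 (mul_right_cancel₀ (irr_one_ne_zero χ) ?_), hc⟩
  rw [one_mul, mul_assoc, ← hc, ← hc, ← mul_assoc, S.z_sq, one_mul]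

variable {c : IrrCharacter G → ℂ} (hpm : ∀ χ, c χ = 1 ∨ c χ = -1)
  (hc : ∀ (χ : IrrCharacter G) g, (χ : G → ℂ) (σ ^ h * g) = c χ * (χ : G → ℂ) g)
include hpm hc

omit hzc hc in
theorem conj_sign (χ : IrrCharacter G) : conj (c χ) = c χ ∧ c χ * c χ = 1 := by
  rcases hpm χ with e1 | e1 <;> simp [e1]

/-- **The contributions at the involution.** -/
theorem ctr_z (χ ψ : B) :
    ctr D e (σ ^ h) χ.1 ψ.1 = c χ.1 * c ψ.1 * regMat 2 B χ ψ := by
  have htop := S.centralizer_z hzc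
  have hval : ∀ ξ : B, ∀ s : G, ¬ 2 ∣ orderOf s →
      val ξ.1 (σ ^ h) s (subBlk 2 D e (σ ^ h)) = c ξ.1 * (ξ.1 : G → ℂ) s := fun ξ s hs => by
    rw [S.subBlk_eq_idem (S.pow_mem_D h) htop, ← hc,
      val_central S.hM S.hB ξ.2 ⟨⟨1, by rw [pow_one, pow_two, S.z_sq]⟩, hs, hzc s⟩ htop]
  rw [ctr, contribR, regMat, CfsgLib.Char.classInner_def, htop, Subgroup.card_top, mul_left_comm]
  congr 1
  rw [sum_filter, mul_sum]
  refine sum_congr rfl fun s _ => ?_
  by_cases hs : 2 ∣ orderOf s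
  · simp [regPart_of_dvd hs, hs]
  · rw [if_pos ⟨Subgroup.mem_top _, hs⟩, regPart_of_not_dvd hs, hval χ s hs, hval ψ s hs,
      map_mul, (S.conj_sign hpm _).1]
    ring

/-- The signed trace of the regular part vanishes. -/
theorem sum_sign_reg [Fintype B] : ∑ χ : B, c χ.1 * regMat 2 B χ χ = 0 := by
  letI := irrFintype (G := G)
  simp only [regMat, CfsgLib.Char.classInner_def, mul_sum]
  rw [sum_comm]
  refine sum_eq_zero fun s _ => ?_
  by_cases hs : 2 ∣ orderOf s
  · simp [regPart_of_dvd hs]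
  · have hord : 2 ∣ orderOf (σ ^ h * s) := by
      rw [(show Commute (σ ^ h) s from hzc s).orderOf_mul_eq_mul_orderOf_of_coprime
        (by rw [S.orderOf_z]; exact Nat.prime_two.coprime_iff_not_dvd.2 hs), S.orderOf_z]
      exact dvd_mul_right 2 _
    have h1 := weak_orth S.hM (isIntClass_blockCoeff S.hB) hs hord
    rw [sum_subtype (univ.filter (· ∈ B)) (p := (· ∈ B)) (by simp)
      (fun ξ : IrrCharacter G => (ξ : G → ℂ) s * conj ((ξ : G → ℂ) (σ ^ h * s)))] at h1
    refine Eq.trans ?_ (mul_eq_zero_of_right (Nat.card G : ℂ)⁻¹ h1)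
    rw [mul_sum]
    exact sum_congr rfl fun χ _ => by
      rw [regPart_of_not_dvd hs, hc, map_mul, (S.conj_sign hpm _).1]; ring

/-- Multiplying by the involution multiplies the contributions by the signs. -/
theorem ctr_mul_z {u : G} (hu : u ∈ D) (hZ : Z[σ ^ h * u] = Z[u]) (χ ψ : IrrCharacter G) :
    ctr D e (σ ^ h * u) χ ψ = c χ * c ψ * ctr D e u χ ψ := by
  have hzu : σ ^ h * u ∈ D := D.mul_mem (S.pow_mem_D h) hu
  have hsub : subBlk 2 D e (σ ^ h * u) = subBlk 2 D e u := by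
    refine (ple_unique S.pair (subBlk_ple S.pair hu) ?_).symm
    rw [← hZ]; exact subBlk_ple S.pair hzu
  rw [ctr, ctr, hsub, contribR, contribR, hZ]
  simp only [mul_sum]
  refine sum_congr rfl fun s hs => ?_
  obtain ⟨-, hsC, hreg⟩ := mem_filter.1 hs
  have h1 : PElt 2 u s := ⟨mem_pSet.1 (mem_pSet_of_mem S.pair hu), hreg, (mem_cz.1 hsC).symm⟩
  have h2 : PElt 2 (σ ^ h * u) s := ⟨mem_pSet.1 (mem_pSet_of_mem S.pair hzu), hreg,
    (show Commute (σ ^ h) s from hzc s).mul_left h1.comm⟩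
  rw [val_mul_scalar S.hM (hc χ) hzc h1 h2 hZ (S.rep_blk hu),
    val_mul_scalar S.hM (hc ψ) hzc h1 h2 hZ (S.rep_blk hu), map_mul, (S.conj_sign hpm ψ).1]
  ring

omit hpm hc in
theorem zpowers_z_mul {i : ℕ} (hi : σ ^ i * σ ^ i ≠ 1) : Z[σ ^ h * σ ^ i] = Z[σ ^ i] := by
  have key : ∀ u ∈ Z[σ], u * u ≠ 1 → σ ^ h * u ∈ Z[u] := fun u hu h2 => by
    obtain ⟨r, hr⟩ := S.exists_pow_w hu h2
    refine mul_mem ?_ (Subgroup.mem_zpowers u)
    rw [← S.w_sq, ← hr]
    exact mul_mem (Subgroup.npow_mem_zpowers u r) (Subgroup.npow_mem_zpowers u r)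
  have hm : σ ^ i ∈ Z[σ] := Subgroup.npow_mem_zpowers σ i
  have h2 : σ ^ h * σ ^ i * (σ ^ h * σ ^ i) ≠ 1 := by
    rw [show σ ^ h * σ ^ i * (σ ^ h * σ ^ i) = σ ^ h * σ ^ h * (σ ^ i * σ ^ i) by
      simp only [← pow_add]; congr 1; ring, S.z_sq, one_mul]
    exact hi
  refine le_antisymm (Subgroup.zpowers_le.2 (key _ hm hi)) (Subgroup.zpowers_le.2 ?_)
  have h3 := key _ (mul_mem (Subgroup.npow_mem_zpowers σ h) hm) h2
  rwa [← mul_assoc, S.z_sq, one_mul] at h3

/-- The signed squares vanish at a rotation of order more than four. -/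
theorem sum_sign_sq [Fintype B] {th : IrrCharacter G → ℕ → ℝ} (R : RotVals S th) {i : ℕ}
    (hi : i ∈ Ico 1 h) (hne : i ≠ h / 2) :
    ∑ χ : B, c χ.1 * ctr D e (σ ^ i) χ.1 χ.1 = 0 := by
  obtain ⟨h1, h2⟩ := mem_Ico.1 hi
  have hj : h - i ∈ Ico 1 h := mem_Ico.2 ⟨by omega, by omega⟩
  obtain ⟨χ₁, hne1, -⟩ := S.exists_ne_zero R hi
  have hrel : ∀ χ : B, (th χ.1 (h - i) : ℂ) * (th χ₁.1 (h - i) : ℂ) =
      c χ.1 * c χ₁.1 * ((th χ.1 i : ℂ) * (th χ₁.1 i : ℂ)) := by
    intro χ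
    have hfus : Fus D e (σ ^ (h - i)) (σ ^ h * σ ^ i) := by
      have h3 := fus_conj S.pair (S.pow_mem_D (h - i)) S.τ_mem
      have e1 : (σ ^ (h - i))⁻¹ = σ ^ h * σ ^ i := by
        rw [inv_eq_iff_mul_eq_one, ← pow_add, ← pow_add, S.pow_eq_one]
        exact ⟨1, by omega⟩
      rwa [S.τ_rot', e1] at h3
    have h4 := S.ctr_mul_z hzc hpm hc (S.pow_mem_D i)
      (S.zpowers_z_mul hzc (S.rot_sq_ne (by omega) (by omega) (by omega))) χ.1 χ₁.1
    rw [← S.ctr_fus (S.pow_mem_D _) hfus, S.ctr_rot R hj, S.ctr_rot R hi, ← mul_assoc] at h4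
    exact mul_right_cancel₀ (inv_ne_zero (S.two_h_ne R)) h4
  have h5 : ∑ χ : B, (th χ.1 i : ℂ) * (th χ.1 (h - i) : ℂ) = 0 := by
    exact_mod_cast S.sum_mul R hi hj (by omega)
  refine mul_left_cancel₀ (a := c χ₁.1 * (th χ₁.1 i : ℂ)) (mul_ne_zero ?_ (by exact_mod_cast hne1))
    ?_
  · rcases hpm χ₁.1 with e1 | e1 <;> simp [e1]
  rw [mul_zero, mul_sum, ← mul_zero ((th χ₁.1 (h - i) : ℂ) * ((2 * h : ℕ) : ℂ)⁻¹), ← h5, mul_sum]
  refine sum_congr rfl fun χ _ => ?_
  rw [S.ctr_rot R hi]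
  linear_combination (-((th χ.1 i : ℂ) * ((2 * h : ℕ) : ℂ)⁻¹)) * hrel χ

/-- An element carried onto its product with the involution kills the nontrivial sign. -/
theorem ctr_eq_zero_of_sign [Fintype B] {v t : G} (hv : v ∈ D) (ht : t ∈ D)
    (hv2 : v * v = σ ^ h) (htv : t * v * t⁻¹ = σ ^ h * v)
    (htr : ∑ χ : B, ctr D e v χ.1 χ.1 = 1) (χ : B) (hne : c χ.1 ≠ 1) :
    ctr D e v χ.1 χ.1 = 0 := by
  refine S.ctr_eq_zero_of_val hv htr ?_
  have hzv : σ ^ h * v ∈ D := D.mul_mem (S.pow_mem_D h) hv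
  have hZ : Z[σ ^ h * v] = Z[v] := by
    have e1 : σ ^ h * v = v⁻¹ := by
      rw [eq_inv_iff_mul_eq_one, mul_assoc, hv2, S.z_sq]
    rw [e1, Subgroup.zpowers_inv]
  have hs : PElt 2 v (1 : G) := ⟨mem_pSet.1 (mem_pSet_of_mem S.pair hv),
    by rw [orderOf_one]; exact Nat.prime_two.not_dvd_one, Commute.one_right _⟩
  have hs' : PElt 2 (σ ^ h * v) (1 : G) := ⟨mem_pSet.1 (mem_pSet_of_mem S.pair hzv),
    by rw [orderOf_one]; exact Nat.prime_two.not_dvd_one, Commute.one_right _⟩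
  have hblk := S.rep_blk hv
  have h1 := val_conj S.hM χ.1 hs t hblk.idem (hblk.fixBy.mono (sup_le_cz hs))
  have hsub : subBlk 2 D e (σ ^ h * v) = subBlk 2 D e v := by
    refine (ple_unique S.pair (subBlk_ple S.pair hv) ?_).symm
    rw [← hZ]; exact subBlk_ple S.pair hzv
  rw [subBlk_conj S.pair hv ht, htv, mul_one, mul_inv_cancel, hsub,
    val_mul_scalar S.hM (hc χ.1) hzc hs hs' hZ hblk] at h1
  rcases hpm χ.1 with e1 | e1
  · exact absurd e1 hne
  · rw [e1] at h1
    linear_combination (-1 / 2 : ℂ) * h1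

/-- **The signs add up to the subsections of order four.** -/
theorem sum_sign [Fintype B] : ∑ χ : B, c χ.1 = 1 + (S.oth.card : ℂ) := by
  obtain ⟨th, R⟩ := S.exists_rotVals
  have hfix : ∀ v t : G, v ∈ D → t ∈ D → v * v = σ ^ h → t * v * t⁻¹ = σ ^ h * v →
      ∑ χ : B, ctr D e v χ.1 χ.1 = 1 → ∑ χ : B, c χ.1 * ctr D e v χ.1 χ.1 = 1 := by
    intro v t hv ht hv2 htv htr
    refine (sum_congr rfl fun χ _ => ?_).trans htr
    by_cases hne : c χ.1 = 1
    · rw [hne, one_mul]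
    · rw [S.ctr_eq_zero_of_sign hzc hpm hc hv ht hv2 htv htr χ hne, mul_zero]
  have hrot : ∀ i ∈ Ico 1 h, ∑ χ : B, c χ.1 * ctr D e (σ ^ i) χ.1 χ.1 =
      if i = h / 2 then 1 else 0 := by
    intro i hi
    split_ifs with hw
    · subst hw
      refine hfix _ τ (S.pow_mem_D _) S.τ_mem S.w_sq ?_ (S.trace_rot R hi)
      rw [S.τ_rot', inv_eq_iff_mul_eq_one, ← mul_assoc, ← (hzc _), mul_assoc, S.w_sq, S.z_sq]
    · exact S.sum_sign_sq hzc hpm hc R hi hw
  have hoth : ∀ v ∈ S.oth, ∑ χ : B, c χ.1 * ctr D e v χ.1 χ.1 = 1 := by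
    intro v hv
    obtain ⟨hvD, hvn, -⟩ := S.oth_props hv
    refine hfix v (σ ^ (h / 2)) hvD (S.pow_mem_D _) (S.refl_sq hvD hvn) ?_ (S.oth_facts hv).1
    have h1 := S.refl_inv_rot hvD hvn (inv_mem (Subgroup.npow_mem_zpowers σ (h / 2)))
    rw [inv_inv] at h1
    rw [← S.w_sq, mul_assoc (σ ^ (h / 2)) (σ ^ (h / 2)), mul_assoc (σ ^ (h / 2))]
    exact congrArg _ (mul_inv_eq_iff_eq_mul.1 h1)
  calc ∑ χ : B, c χ.1 = ∑ χ : B, c χ.1 * (if χ = χ then 1 else 0 : ℂ) := by simp
    _ = ∑ χ : B, c χ.1 * regMat 2 B χ χ + ∑ v ∈ S.reps, ∑ χ : B, c χ.1 * ctr D e v χ.1 χ.1 := by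
        rw [sum_congr rfl fun χ _ => by rw [S.delta χ χ, mul_add, mul_sum], sum_add_distrib,
          sum_comm (s := univ)]
    _ = 1 + (S.oth.card : ℂ) := by
        rw [S.sum_sign_reg hzc hpm hc, S.sum_reps, sum_congr rfl hrot, sum_congr rfl hoth,
          sum_ite_eq', if_pos S.half_mem, sum_const, nsmul_one,
          show ∑ χ : B, c χ.1 * ctr D e (σ ^ h) χ.1 χ.1 = 0 from
            (sum_congr rfl fun χ _ => by
              rw [S.ctr_z hzc hpm hc χ χ, (S.conj_sign hpm χ.1).2, one_mul]).trans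
              (S.sum_sign_reg hzc hpm hc)]
        ring

omit hpm hc in
theorem card_eq_two_rank [Fintype B] :
    Nat.card B = 2 * blockRank 2 B + (h - 1) + S.oth.card := by
  obtain ⟨c, hpm, hc⟩ := S.exists_sign hzc
  haveI : Fintype C[Z[σ ^ h]] := Fintype.ofFinite _
  obtain ⟨f, hf, hfe, -⟩ := exists_sub S.hM S.hB S.hmax (S.pow_mem_D h)
  have h1 : (blockRank 2 f : ℂ) = (blockRank 2 B : ℂ) := by
    rw [← sum_contribR_self S.hM S.hB S.hmax (S.pow_mem_D h) hf hfe,
      blockRank_eq_trace S.hM S.hB]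
    exact sum_congr rfl fun χ _ =>
      (S.ctr_z hzc hpm hc χ χ).trans (by rw [(S.conj_sign hpm χ.1).2, one_mul])
  rw [S.card_eq hf hfe, Nat.cast_injective h1]
  omega

end central

/-- **The image of the defect group modulo the involution is dihedral.** -/
theorem nonempty_quotient_dihedral [(Z[σ ^ h]).Normal] :
    Nonempty ((D.map (QuotientGroup.mk' Z[σ ^ h])) ≃* DihedralGroup h) := by
  set π := QuotientGroup.mk' Z[σ ^ h] with hπ
  have hker : ∀ g, π g = 1 ↔ g = 1 ∨ g = σ ^ h := fun g => by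
    rw [hπ, QuotientGroup.mk'_apply, QuotientGroup.eq_one_iff]
    constructor
    · intro hg
      have hgσ : g ∈ Z[σ] := Subgroup.zpowers_le.2 (Subgroup.npow_mem_zpowers σ h) hg
      refine S.eq_z hgσ ?_
      obtain ⟨j, rfl⟩ := Subgroup.mem_zpowers_iff.1 hg
      rw [← zpow_add, ← two_mul, zpow_mul]
      rw [show (σ ^ h) ^ (2 : ℤ) = 1 by rw [zpow_ofNat, pow_two, S.z_sq], one_zpow]
    · rintro (rfl | rfl)
      exacts [one_mem _, Subgroup.mem_zpowers _]
  have hrel : π τ * π σ * (π τ)⁻¹ = (π σ)⁻¹ := by rw [← map_inv, ← map_mul, ← map_mul, S.rel, map_inv]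
  have hy2 : π τ * π τ = 1 := by
    rw [← map_mul, S.sq]; exact (hker _).2 (Or.inr rfl)
  have hy : orderOf (π τ) = 2 := CfsgLib.Invol.orderOf_eq_two hy2 fun e1 => by
    rcases (hker τ).1 e1 with e2 | e2
    · exact S.τ_not (e2 ▸ one_mem _)
    · exact S.τ_not (e2 ▸ Subgroup.npow_mem_zpowers σ h)
  have hx : orderOf (π σ * π τ) = 2 := by
    refine CfsgLib.Invol.orderOf_eq_two ?_ fun e1 => ?_
    · calc π σ * π τ * (π σ * π τ) = π σ * (π τ * π σ * (π τ)⁻¹) * (π τ * π τ) := by group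
        _ = 1 := by rw [hrel, hy2, mul_one, mul_inv_cancel]
    · rw [← map_mul] at e1
      have h1 := S.refl_not 1
      rw [zpow_one] at h1
      rcases (hker _).1 e1 with e2 | e2
      · exact h1 (e2 ▸ one_mem _)
      · exact h1 (e2 ▸ Subgroup.npow_mem_zpowers σ h)
  have hord : orderOf (π σ * π τ * π τ) = h := by
    rw [mul_assoc, hy2, mul_one]
    refine (orderOf_eq_iff S.h_pos).2 ⟨?_, fun m hm hm0 e1 => ?_⟩
    · rw [← map_pow]; exact (hker _).2 (Or.inr rfl)
    · rw [← map_pow] at e1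
      rcases (hker _).1 e1 with e2 | e2
      · exact S.pow_ne_one hm0 (by omega) e2
      · exact absurd (S.pow_inj (by omega) (by omega) e2) (by omega)
  obtain ⟨E⟩ := CfsgLib.Invol.nonempty_dihedral_equiv hx hy fun e1 => by
    rw [mul_eq_right, hker] at e1
    rcases e1 with e2 | e2
    · exact S.pow_ne_one (le_refl 1) (by have := S.h_pos; omega) (by rw [pow_one]; exact e2)
    · have := S.pow_inj (i := 1) (j := h) (by have := S.h_pos; omega) (by have := S.h_pos; omega)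
        (by rw [pow_one]; exact e2)
      have := S.h_two
      omega
  have hD : D.map π = Subgroup.closure {π σ * π τ, π τ} := by
    refine le_antisymm ?_ ?_
    · rintro _ ⟨g, hg, rfl⟩
      have hs : π σ ∈ Subgroup.closure {π σ * π τ, π τ} := by
        have h1 := mul_mem (Subgroup.subset_closure (Set.mem_insert (π σ * π τ) {π τ}))
          (Subgroup.subset_closure (Set.mem_insert_of_mem (π σ * π τ) rfl))
        rwa [mul_assoc, hy2, mul_one] at h1
      obtain ⟨i, rfl | rfl⟩ := S.cases g hg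
      · rw [map_zpow]; exact zpow_mem hs i
      · rw [map_mul, map_zpow]
        exact mul_mem (zpow_mem hs i) (Subgroup.subset_closure (Set.mem_insert_of_mem _ rfl))
    · rw [Subgroup.closure_le]
      rintro x (rfl | rfl)
      · exact ⟨σ * τ, D.mul_mem S.σ_mem S.τ_mem, map_mul _ _ _⟩
      · exact ⟨τ, S.τ_mem, rfl⟩
  rw [hord] at E
  exact ⟨(MulEquiv.subgroupCongr hD).trans E⟩

/-- **The members trivial on a central involution.** -/
theorem card_sign_one [Fintype B] (hzc : ∀ g : G, σ ^ h * g = g * σ ^ h)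
    {c : IrrCharacter G → ℂ} (hc : ∀ (χ : IrrCharacter G) g,
      (χ : G → ℂ) (σ ^ h * g) = c χ * (χ : G → ℂ) g) :
    (univ.filter fun χ : B => c χ.1 = 1).card = h / 2 + 3 ∨
      (h = 2 ∧ (univ.filter fun χ : B => c χ.1 = 1).card = 4) := by
  set N : Subgroup G := Z[σ ^ h] with hN
  haveI : N.Normal := ⟨fun n hn g => by
    obtain ⟨j, rfl⟩ := Subgroup.mem_zpowers_iff.1 hn
    rw [((show Commute (σ ^ h) g from hzc g).zpow_left j).eq.symm, mul_inv_cancel_right]
    exact hn⟩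
  haveI : Fintype (G ⧸ N) := Fintype.ofFinite _
  have hNZ : N ≤ Subgroup.center G :=
    Subgroup.zpowers_le.2 (Subgroup.mem_center_iff.2 fun g => (hzc g).symm)
  have hNp : IsPGroup 2 N :=
    IsPGroup.of_card (n := 1) (by rw [hN, Nat.card_zpowers, S.orderOf_z, pow_one])
  -- the inflations are the members trivial on the involution
  have hcount : Nat.card (Quot.below (N := N) B) = (univ.filter fun χ : B => c χ.1 = 1).card := by
    have hmem : ∀ φ : Quot.below (N := N) B, c (Quot.inflIrr φ.1) = 1 := fun φ => by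
      refine mul_right_cancel₀ (irr_one_ne_zero (Quot.inflIrr φ.1)) ?_
      rw [← hc, one_mul, mul_one]
      show (φ.1 : G ⧸ N → ℂ) ((σ ^ h : G) : G ⧸ N) = (φ.1 : G ⧸ N → ℂ) ((1 : G) : G ⧸ N)
      rw [(QuotientGroup.eq_one_iff _).2 (Subgroup.mem_zpowers _), QuotientGroup.mk_one]
    rw [← Fintype.card_subtype, ← Nat.card_eq_fintype_card]
    refine Nat.card_congr (Equiv.ofBijective
      (fun φ : Quot.below (N := N) B =>
        (⟨⟨Quot.inflIrr φ.1, φ.2⟩, hmem φ⟩ : {χ : B // c χ.1 = 1})) ⟨fun φ ψ he => ?_, ?_⟩)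
    · have h1 := congrArg (fun x : {χ : B // c χ.1 = 1} => (x.1.1 : G → ℂ)) he
      refine Subtype.ext (Subtype.ext (funext fun q => ?_))
      obtain ⟨g, rfl⟩ := QuotientGroup.mk_surjective q
      exact congrFun h1 g
    · rintro ⟨⟨χ, hχ⟩, hcχ⟩
      obtain ⟨φ, hφ⟩ := exists_quotient_irr N χ fun n hn => by
        obtain ⟨j, rfl⟩ := mem_powers_iff_mem_zpowers.2 hn
        induction j with
        | zero => simp
        | succ j ih =>
          show (χ : G → ℂ) ((σ ^ h) ^ (j + 1)) = _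
          rw [pow_succ', hc, show c χ = 1 from hcχ, one_mul]
          exact ih (Subgroup.npow_mem_zpowers _ j)
      have he : Quot.inflIrr φ = χ := Subtype.ext (funext fun g => (hφ g).symm)
      exact ⟨⟨φ, show Quot.inflIrr φ ∈ B from he.symm ▸ hχ⟩, Subtype.ext (Subtype.ext he)⟩
  obtain ⟨Bb, hBb, hsub, hdef⟩ := Quot.exists_block_map_defectGroup S.hM hNp S.hB
  have heq : Quot.below (N := N) B = Bb := by
    obtain ⟨hbel, -⟩ := isPBlock_eq_below S.hM hNZ hNp S.hB
    obtain ⟨χ, hχ⟩ := exists_mem_block hBb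
    exact Set.ext fun ψ =>
      (sameBlock_iff_mem hbel (show χ ∈ Quot.below (N := N) B from hsub χ hχ)).trans
        (sameBlock_iff_mem hBb hχ).symm
  have hDef : IsDefectGroup 2 M Bb (D.map (QuotientGroup.mk' N)) :=
    (hdef _).2 ⟨D, isDefectGroup_of_isDef S.hM S.hB (S.hmax.isDef (isBlk_idem S.hM S.hB)), rfl⟩
  obtain ⟨E⟩ := S.nonempty_quotient_dihedral
  rw [← hcount, heq]
  obtain ⟨k, hk⟩ := S.hh
  rcases Nat.eq_zero_or_pos k with rfl | hk0
  · right
    refine ⟨by rw [hk]; rfl, card_of_klein S.hM hBb hDef ⟨?_, ?_⟩⟩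
    · rw [Nat.card_congr E.toEquiv, DihedralGroup.nat_card, hk]; rfl
    · rw [Monoid.exponent_eq_of_mulEquiv E, DihedralGroup.exponent, hk]; rfl
  · left
    have h1 := (DihDefect.invariants S.hM hBb hDef (n := k + 2) (by omega)
      (E.trans (MulEquiv.cast (M := DihedralGroup) (show h = 2 ^ (k + 2 - 1) by
        rw [hk, show k + 2 - 1 = k + 1 by omega])))).1
    rw [h1, hk, show k + 2 - 2 = k by omega, pow_succ, Nat.mul_div_cancel _ two_pos]

/-- **A central involution: the rank and the further classes of order four add up to three.** -/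
theorem rank_add_oth [Fintype B] (hzc : ∀ g : G, σ ^ h * g = g * σ ^ h) :
    blockRank 2 B + S.oth.card = 3 := by
  obtain ⟨c, hpm, hc⟩ := S.exists_sign hzc
  have hk := S.card_eq_two_rank hzc
  set P := (univ.filter fun χ : B => c χ.1 = 1).card with hP
  have hsum : (2 * (P : ℂ)) = (Nat.card B : ℂ) + 1 + (S.oth.card : ℂ) := by
    have h1 := S.sum_sign hzc hpm hc
    have h2 : ∑ χ : B, (c χ.1 + 1) = 2 * (P : ℂ) := by
      rw [hP, mul_comm, ← nsmul_eq_mul, ← sum_const, sum_filter]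
      exact sum_congr rfl fun χ _ => by rcases hpm χ.1 with e1 | e1 <;> norm_num [e1]
    rw [← h2, sum_add_distrib, h1, sum_const, nsmul_one, card_univ, ← Nat.card_eq_fintype_card]
    ring
  have hsum' : 2 * P = Nat.card B + 1 + S.oth.card := by exact_mod_cast hsum
  have := S.h_two
  have := S.h_pos
  rcases S.card_sign_one hzc hc with h3 | ⟨h3, h4⟩
  · rw [← hP] at h3; omega
  · rw [← hP] at h4; omega

end QuatData

end CfsgLib.QuatDefect
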