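import Cfsg.Agent.BlocksB.QuatDefect.Expand

/-!
# A block with quaternion defect group: the integral vectors of the rotations
-/

set_option autoImplicit false
set_option linter.style.haveILetI false
set_option linter.unusedSectionVars false

namespace CfsgLib.QuatDefect

open Cfsg Finset CfsgLib.Block CfsgLib.Block.Chr CfsgLib.BrauerPairs CfsgLib.BlockStar
  CfsgLib.BlockB
open CfsgLib.DihDefect (om om_spec sum_om)
open scoped ComplexConjugate
open scoped Classical

universe u

variable {M : Ideal AlgInt} [M.IsPrime] [Fact (Nat.Prime 2)] [CharP (Residue M) 2]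
  {G : Type u} [Group G] [Fintype G]

local notation "𝕜" => Residue M
local notation "Z[" x "]" => Subgroup.zpowers x
local notation "C[" Q "]" => Subgroup.centralizer (SetLike.coe Q)

/-- Splitting a symmetric sum over a period. -/
theorem sum_symm {α : Type*} [AddCommMonoid α] {h : ℕ} (hh : 0 < h) (f : ℕ → α)
    (hf : ∀ j ∈ Ico 1 h, f (2 * h - j) = f j) :
    ∑ j ∈ range (2 * h), f j = f 0 + f h + 2 • ∑ j ∈ Ico 1 h, f j := by
  have h2 : ∑ l ∈ Ico (h + 1) (2 * h), f l = ∑ l ∈ Ico 1 h, f l := by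
    refine sum_bij' (fun l _ => 2 * h - l) (fun l _ => 2 * h - l)
      (fun l hl => ?_) (fun l hl => ?_) (fun l hl => ?_) (fun l hl => ?_) fun l hl => ?_
    · simp only [mem_Ico] at hl ⊢; omega
    · simp only [mem_Ico] at hl ⊢; omega
    · simp only [mem_Ico] at hl; omega
    · simp only [mem_Ico] at hl; omega
    · simp only [mem_Ico] at hl
      rw [← hf (2 * h - l) (mem_Ico.2 (by omega))]
      congr 1
      omega
  rw [range_eq_Ico, ← sum_Ico_consecutive _ (Nat.zero_le h) (by omega : h ≤ 2 * h),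
    sum_eq_sum_Ico_succ_bot hh, sum_eq_sum_Ico_succ_bot (by omega : h < 2 * h), h2, two_nsmul]
  abel

/-- The coefficient of the Gram matrix. -/
theorem sum_gram {h j k : ℕ} (hj : j ∈ Icc 2 h) (hk : k ∈ Icc 2 h) :
    ∑ i ∈ range (2 * h), (om h ^ (i * j) - om h ^ (i * (j % 2))) *
        ((om h ^ (i * k) - om h ^ (i * (k % 2))) +
          (om h ^ (i * (2 * h - k)) - om h ^ (i * (2 * h - k % 2)))) =
      ((2 * h : ℕ) : ℂ) * (((if j = k then 1 else 0) + (if j = h ∧ k = h then 1 else 0) +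
        (if j % 2 = k % 2 then (if j % 2 = 0 then 2 else 1) else 0) : ℤ) : ℂ) := by
  obtain ⟨hj1, hj2⟩ := mem_Icc.1 hj
  obtain ⟨hk1, hk2⟩ := mem_Icc.1 hk
  have hh : 0 < h := by omega
  have hjp : j % 2 < 2 := Nat.mod_lt _ two_pos
  have hkp : k % 2 < 2 := Nat.mod_lt _ two_pos
  have e : ∀ i, (om h ^ (i * j) - om h ^ (i * (j % 2))) *
        ((om h ^ (i * k) - om h ^ (i * (k % 2))) +
          (om h ^ (i * (2 * h - k)) - om h ^ (i * (2 * h - k % 2)))) =
      om h ^ (i * (j + k)) - om h ^ (i * (j + k % 2)) + om h ^ (i * (j + (2 * h - k))) -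
        om h ^ (i * (j + (2 * h - k % 2))) - om h ^ (i * (j % 2 + k)) +
        om h ^ (i * (j % 2 + k % 2)) - om h ^ (i * (j % 2 + (2 * h - k))) +
        om h ^ (i * (j % 2 + (2 * h - k % 2))) := fun i => by
    simp only [Nat.mul_add, pow_add]; ring
  simp only [e, sum_add_distrib, sum_sub_distrib, sum_om hh]
  have dv : ∀ n, n < 4 * h → (2 * h ∣ n ↔ n = 0 ∨ n = 2 * h) := fun n hn => by
    constructor
    · rintro ⟨c, rfl⟩
      rcases Nat.lt_or_ge c 2 with h2 | h2
      · interval_cases c <;> simp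
      · have := Nat.mul_le_mul_left (2 * h) h2; omega
    · rintro (rfl | rfl) <;> simp
  have d1 : 2 * h ∣ j + k ↔ j = h ∧ k = h := by
    refine ⟨fun hd => ?_, fun ⟨a, b⟩ => by rw [a, b, two_mul]⟩
    have := Nat.le_of_dvd (by omega) hd; omega
  have d2 : ¬ 2 * h ∣ j + k % 2 := by rw [dv _ (by omega)]; omega
  have d3 : ¬ 2 * h ∣ j + (2 * h - k % 2) := by rw [dv _ (by omega)]; omega
  have d4 : ¬ 2 * h ∣ j % 2 + k := by rw [dv _ (by omega)]; omega
  have d5 : 2 * h ∣ j % 2 + k % 2 ↔ j % 2 = k % 2 ∧ j % 2 = 0 := by rw [dv _ (by omega)]; omega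
  have d6 : ¬ 2 * h ∣ j % 2 + (2 * h - k) := by rw [dv _ (by omega)]; omega
  have d7 : 2 * h ∣ j % 2 + (2 * h - k % 2) ↔ j % 2 = k % 2 := by rw [dv _ (by omega)]; omega
  have d8 : 2 * h ∣ j + (2 * h - k) ↔ j = k := by rw [dv _ (by omega)]; omega
  simp only [d1, d2, d3, d4, d5, d6, d7, d8, if_false]
  by_cases hp : j % 2 = k % 2 <;> by_cases hq : j % 2 = 0 <;>
    simp only [hp, hq, true_and, false_and, and_true, and_false, if_true, if_false] at * <;>
    split_ifs <;> push_cast <;> ring1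

variable {B : Set (IrrCharacter G)} {D : Subgroup G} {e : MonoidAlgebra (Residue M) G}
  {σ τ : G} {h : ℕ} {S : QuatData (M := M) B D e σ τ h} {th : IrrCharacter G → ℕ → ℝ}

namespace RotVals

variable (R : RotVals S th)
include R

/-- The multiplicities of the linear characters of the rotations. -/
noncomputable def co (χ : IrrCharacter G) (j : ℕ) : ℤ := (R.coeff χ j).choose

theorem co_spec (χ : IrrCharacter G) (j : ℕ) :
    ∑ i ∈ range (2 * h), (th χ i : ℂ) * om h ^ (i * j) = ((2 * h : ℕ) : ℂ) * (R.co χ j : ℂ) :=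
  (R.coeff χ j).choose_spec

theorem two_h_ne' : ((2 * h : ℕ) : ℂ) ≠ 0 :=
  Nat.cast_ne_zero.2 (by have := S.h_pos; omega)

theorem om_conj {n : ℕ} (hn : n ≤ 2 * h) (i : ℕ) :
    conj (om h ^ (i * n)) = om h ^ (i * (2 * h - n)) := by
  have hω := om_spec S.h_pos
  have hu : ‖om h‖ = 1 := hω.norm'_eq_one (by have := S.h_pos; omega)
  rw [← Complex.inv_eq_conj (by rw [norm_pow, hu, one_pow])]
  refine inv_eq_of_mul_eq_one_right ?_
  rw [← pow_add, ← Nat.mul_add, Nat.add_sub_cancel' hn, mul_comm i, pow_mul, hω.pow_eq_one,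
    one_pow]

theorem co_symm (χ : IrrCharacter G) {j : ℕ} (hj : j ≤ 2 * h) :
    R.co χ (2 * h - j) = R.co χ j := by
  have h1 := congrArg conj (R.co_spec χ j)
  simp only [map_sum, map_mul, Complex.conj_ofReal, R.om_conj hj, map_natCast, map_intCast] at h1
  exact_mod_cast mul_left_cancel₀ R.two_h_ne' ((R.co_spec χ (2 * h - j)).symm.trans h1)

/-- The vectors. -/
noncomputable def vec (χ : IrrCharacter G) (j : ℕ) : ℤ := R.co χ j - R.co χ (j % 2)

theorem vec_symm (χ : IrrCharacter G) {j : ℕ} (hj : j ≤ 2 * h) :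
    R.vec χ (2 * h - j) = R.vec χ j := by
  rw [vec, vec, R.co_symm χ hj, show (2 * h - j) % 2 = j % 2 by omega]

theorem vec_zero (χ : IrrCharacter G) : R.vec χ 0 = 0 := sub_self _

theorem vec_one (χ : IrrCharacter G) : R.vec χ 1 = 0 := sub_self _

theorem vec_spec (χ : IrrCharacter G) (j : ℕ) :
    ∑ i ∈ range (2 * h), (th χ i : ℂ) * (om h ^ (i * j) - om h ^ (i * (j % 2))) =
      ((2 * h : ℕ) : ℂ) * (R.vec χ j : ℂ) := by
  rw [vec, Int.cast_sub, mul_sub, ← R.co_spec, ← R.co_spec χ (j % 2)]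
  simp [mul_sub, sum_sub_distrib]

/-- **The values from the multiplicities.** -/
theorem th_eq (χ : IrrCharacter G) {i : ℕ} (hi : i < 2 * h) :
    (th χ i : ℂ) = ∑ j ∈ range (2 * h), (R.co χ j : ℂ) * om h ^ (i * j) := by
  have hh := S.h_pos
  apply mul_left_cancel₀ R.two_h_ne'
  symm
  calc ((2 * h : ℕ) : ℂ) * ∑ j ∈ range (2 * h), (R.co χ j : ℂ) * om h ^ (i * j)
      = ∑ i' ∈ range (2 * h), (th χ i' : ℂ) *
          (if 2 * h ∣ i' + i then ((2 * h : ℕ) : ℂ) else 0) := by
        simp only [mul_sum, ← mul_assoc, ← R.co_spec, Finset.sum_mul]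
        rw [sum_comm]
        refine sum_congr rfl fun i' _ => ?_
        rw [← sum_om hh (i' + i), mul_sum]
        refine sum_congr rfl fun j _ => ?_
        rw [Nat.mul_add, pow_add, mul_comm j i', mul_comm j i]
        ring
    _ = ((2 * h : ℕ) : ℂ) * (th χ i : ℂ) := by
        by_cases hi0 : i = 0
        · subst hi0
          rw [sum_eq_single_of_mem 0 (mem_range.2 hi) fun i' hi' hne => by
            rw [if_neg, mul_zero]
            intro hd
            have := Nat.le_of_dvd (by omega) hd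
            rw [mem_range] at hi'
            omega]
          simp [mul_comm]
        · rw [sum_eq_single_of_mem (2 * h - i) (mem_range.2 (by omega)) fun i' hi' hne => by
            rw [if_neg, mul_zero]
            intro hd
            obtain ⟨c, hc⟩ := hd
            rw [mem_range] at hi'
            rcases Nat.lt_or_ge c 2 with h2 | h2
            · interval_cases c <;> omega
            · have := Nat.mul_le_mul_left (2 * h) h2; omega,
            if_pos (by rw [Nat.sub_add_cancel hi.le]), R.symm χ i hi.le, mul_comm]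

/-- The quadratic form of the vectors. -/
theorem twoN (χ : IrrCharacter G) :
    2 * ∑ i ∈ Ico 1 h, th χ i ^ 2 =
      ((2 * (h : ℤ) * (2 * ∑ j ∈ Ico 1 h, R.vec χ j ^ 2 + R.vec χ h ^ 2) -
        2 * (2 * (∑ j ∈ (Ico 1 h).filter (fun j => j % 2 = 0), R.vec χ j) + R.vec χ h) ^ 2 -
        2 * (2 * ∑ j ∈ (Ico 1 h).filter (fun j => j % 2 = 1), R.vec χ j) ^ 2 : ℤ) : ℝ) := by
  have hh := S.h_pos
  have h2 := S.h_two
  have hω := om_spec hh
  apply Complex.ofReal_injective
  -- the three sums of the multiplicities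
  have hp : ∑ i ∈ range (2 * h), (th χ i : ℂ) ^ 2 =
      ((2 * h : ℕ) : ℂ) * ((∑ j ∈ range (2 * h), R.co χ j ^ 2 : ℤ) : ℂ) := by
    calc ∑ i ∈ range (2 * h), (th χ i : ℂ) ^ 2
        = ∑ i ∈ range (2 * h), ∑ j ∈ range (2 * h),
            (R.co χ j : ℂ) * ((th χ i : ℂ) * om h ^ (i * j)) := by
          refine sum_congr rfl fun i hi => ?_
          rw [pow_two]
          nth_rewrite 2 [R.th_eq χ (mem_range.1 hi)]
          rw [mul_sum]
          exact sum_congr rfl fun j _ => by ring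
      _ = _ := by
          rw [sum_comm]
          push_cast
          rw [mul_sum]
          refine sum_congr rfl fun j _ => ?_
          rw [← mul_sum, R.co_spec]
          push_cast; ring
  have h0 : (th χ 0 : ℂ) = ((∑ j ∈ range (2 * h), R.co χ j : ℤ) : ℂ) := by
    rw [R.th_eq χ (by omega)]; simp
  have hneg : om h ^ h = -1 :=
    (mul_self_eq_one_iff.1 (by rw [← pow_add, ← two_mul, hω.pow_eq_one])).resolve_left
      (fun e1 => by have := Nat.le_of_dvd hh ((hω.pow_eq_one_iff_dvd h).1 e1); omega)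
  have hhh : (th χ h : ℂ) = ((∑ j ∈ range (2 * h), (-1) ^ j * R.co χ j : ℤ) : ℂ) := by
    rw [R.th_eq χ (by omega)]
    push_cast
    exact sum_congr rfl fun j _ => by rw [pow_mul, hneg]; ring
  have hsplit := sum_symm hh (fun i => (th χ i : ℂ) ^ 2) fun i hi => by
    obtain ⟨h3, h4⟩ := mem_Ico.1 hi
    rw [R.symm χ i (by omega)]
  rw [hp, h0, hhh, nsmul_eq_mul] at hsplit
  -- the integral identity
  have hv : ∀ j, R.co χ j = R.vec χ j + (if j % 2 = 0 then R.co χ 0 else R.co χ 1) := fun j => by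
    rw [vec]
    rcases Nat.mod_two_eq_zero_or_one j with e1 | e1 <;> simp [e1]
  set c0 := R.co χ 0
  set c1 := R.co χ 1
  have key : (2 * h : ℤ) * ∑ j ∈ range (2 * h), R.co χ j ^ 2 - (∑ j ∈ range (2 * h), R.co χ j) ^ 2 -
      (∑ j ∈ range (2 * h), (-1) ^ j * R.co χ j) ^ 2 =
      2 * (h : ℤ) * (∑ j ∈ range (2 * h), R.vec χ j ^ 2) -
        2 * (∑ j ∈ range (2 * h), if j % 2 = 0 then R.vec χ j else 0) ^ 2 -
        2 * (∑ j ∈ range (2 * h), if j % 2 = 1 then R.vec χ j else 0) ^ 2 := by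
    have hpar : ∀ m : ℕ, ∑ j ∈ range (2 * m), (if j % 2 = 0 then (1 : ℤ) else 0) = m ∧
        ∑ j ∈ range (2 * m), (if j % 2 = 1 then (1 : ℤ) else 0) = m := by
      intro m
      induction m with
      | zero => simp
      | succ m ih =>
        rw [show 2 * (m + 1) = 2 * m + 1 + 1 by ring, sum_range_succ, sum_range_succ,
          sum_range_succ, sum_range_succ, ih.1, ih.2, show 2 * m % 2 = 0 by omega,
          show (2 * m + 1) % 2 = 1 by omega]
        push_cast
        simp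
    obtain ⟨he, ho⟩ := hpar h
    set E := ∑ j ∈ range (2 * h), if j % 2 = 0 then R.vec χ j else 0
    set O := ∑ j ∈ range (2 * h), if j % 2 = 1 then R.vec χ j else 0
    have s1 : ∑ j ∈ range (2 * h), R.co χ j = E + O + c0 * h + c1 * h := by
      nth_rewrite 1 [← he]
      rw [← ho]
      simp only [E, O, mul_sum, ← sum_add_distrib]
      refine sum_congr rfl fun j _ => ?_
      rw [hv j]
      rcases Nat.mod_two_eq_zero_or_one j with e1 | e1 <;> simp [e1]
    have s2 : ∑ j ∈ range (2 * h), (-1) ^ j * R.co χ j = E - O + c0 * h - c1 * h := by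
      nth_rewrite 1 [← he]
      rw [← ho]
      simp only [E, O, mul_sum, ← sum_add_distrib, ← sum_sub_distrib]
      refine sum_congr rfl fun j _ => ?_
      rw [hv j]
      rcases Nat.mod_two_eq_zero_or_one j with e1 | e1
      · rw [(Nat.even_iff.2 e1).neg_one_pow]; simp [e1]
      · rw [(Nat.odd_iff.2 e1).neg_one_pow]; simp [e1]; ring
    have s3 : ∑ j ∈ range (2 * h), R.co χ j ^ 2 = (∑ j ∈ range (2 * h), R.vec χ j ^ 2) +
        2 * c0 * E + 2 * c1 * O + c0 ^ 2 * h + c1 ^ 2 * h := by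
      nth_rewrite 1 [← he]
      rw [← ho]
      simp only [E, O, mul_sum, ← sum_add_distrib]
      refine sum_congr rfl fun j _ => ?_
      rw [hv j]
      rcases Nat.mod_two_eq_zero_or_one j with e1 | e1 <;> simp [e1] <;> ring
    rw [s1, s2, s3]
    ring
  rw [sum_symm hh (fun j => R.vec χ j ^ 2) (fun j hj => by
      rw [R.vec_symm χ (by rw [mem_Ico] at hj; omega)]),
    sum_symm hh (fun j => if j % 2 = 0 then R.vec χ j else 0) (fun j hj => by
      rw [mem_Ico] at hj
      rw [R.vec_symm χ (by omega), show (2 * h - j) % 2 = j % 2 by omega]),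
    sum_symm hh (fun j => if j % 2 = 1 then R.vec χ j else 0) (fun j hj => by
      rw [mem_Ico] at hj
      rw [R.vec_symm χ (by omega), show (2 * h - j) % 2 = j % 2 by omega])] at key
  simp only [R.vec_zero, nsmul_eq_mul, ← sum_filter, show h % 2 = 0 by omega, if_true,
    Nat.zero_mod, zero_ne_one, if_false, zero_add, ne_eq, OfNat.ofNat_ne_zero, not_false_eq_true,
    zero_pow] at key
  have key' := congrArg (Int.cast (R := ℂ)) key
  push_cast at key' hsplit ⊢
  linear_combination key' - hsplit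

/-- Without vectors the values vanish. -/
theorem th_eq_zero (χ : IrrCharacter G) (hz : ∀ j ∈ Icc 2 h, R.vec χ j = 0) {i : ℕ}
    (hi : i ∈ Ico 1 h) : th χ i = 0 := by
  have h2 := S.h_two
  have hh := S.h_pos
  have hv : ∀ j ∈ Ico 1 h, R.vec χ j = 0 := fun j hj => by
    obtain ⟨h3, h4⟩ := mem_Ico.1 hj
    by_cases h5 : j = 1
    · rw [h5, R.vec_one]
    · exact hz j (mem_Icc.2 (by omega))
  have h1 := R.twoN χ
  have q1 : ∑ j ∈ Ico 1 h, R.vec χ j ^ 2 = 0 := sum_eq_zero fun j hj => by rw [hv j hj]; rfl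
  have q2 : ∀ p : ℕ, ∑ j ∈ (Ico 1 h).filter (fun j => j % 2 = p), R.vec χ j = 0 := fun p =>
    sum_eq_zero fun j hj => hv j (mem_filter.1 hj).1
  rw [hz h (mem_Icc.2 (by omega)), q1, q2, q2] at h1
  norm_num at h1
  have h3 := (sum_eq_zero_iff_of_nonneg fun i _ => sq_nonneg (th χ i)).1 h1 i hi
  exact (pow_eq_zero_iff two_ne_zero).1 h3

/-- The index in `[1, h)` of a rotation. -/
theorem th_red (χ : IrrCharacter G) {i : ℕ} (hi : i < 2 * h) :
    th χ i = th χ (min i (2 * h - i)) := by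
  rcases le_total i (2 * h - i) with h1 | h1
  · rw [min_eq_left h1]
  · rw [min_eq_right h1, R.symm χ i hi.le]

variable [Fintype B]

theorem sum_th_th {i i' : ℕ} (hi : i < 2 * h) (hi0 : i ≠ 0) (hih : i ≠ h) (hi' : i' < 2 * h)
    (hi0' : i' ≠ 0) (hih' : i' ≠ h) :
    ∑ χ : B, (th χ.1 i : ℂ) * (th χ.1 i' : ℂ) =
      ((2 * h : ℕ) : ℂ) * ((if i' = i then 1 else 0) + (if i' = 2 * h - i then 1 else 0)) := by
  have hmem : ∀ n, n < 2 * h → n ≠ 0 → n ≠ h → min n (2 * h - n) ∈ Ico 1 h :=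
    fun n h1 h2 h3 => mem_Ico.2 ⟨by omega, by omega⟩
  simp only [R.th_red _ hi, R.th_red _ hi', ← Complex.ofReal_mul, ← Complex.ofReal_sum]
  by_cases heq : min i (2 * h - i) = min i' (2 * h - i')
  · rw [← heq, sum_congr rfl fun χ _ => (sq (th (χ : B).1 (min i (2 * h - i)))).symm,
      S.sum_sq R (hmem i hi hi0 hih)]
    rcases (show i' = i ∨ i' = 2 * h - i by omega) with e1 | e1
    all_goals
      subst e1
      push_cast
      split_ifs <;> (first | omega | (push_cast; ring1))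
  · rw [S.sum_mul R (hmem i hi hi0 hih) (hmem i' hi' hi0' hih') heq,
      if_neg (fun e1 => heq (by rw [e1])), if_neg (fun e1 => heq (by omega))]
    simp

theorem endpoints (j : ℕ) {i : ℕ} (hi : i = 0 ∨ i = h) :
    om h ^ (i * j) - om h ^ (i * (j % 2)) = 0 := by
  rcases hi with rfl | rfl
  · simp
  · have hω := om_spec S.h_pos
    conv_lhs => arg 1; rw [← Nat.mod_add_div j 2]
    rw [Nat.mul_add, pow_add, ← mul_assoc, mul_comm i 2, pow_mul (om i) (2 * i), hω.pow_eq_one,
      one_pow, mul_one, sub_self]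

/-- **The Gram matrix of the vectors.** -/
theorem gram {j k : ℕ} (hj : j ∈ Icc 2 h) (hk : k ∈ Icc 2 h) :
    ∑ χ : B, R.vec χ.1 j * R.vec χ.1 k =
      (if j = k then 1 else 0) + (if j = h ∧ k = h then 1 else 0) +
        (if j % 2 = k % 2 then (if j % 2 = 0 then 2 else 1) else 0) := by
  have hne := R.two_h_ne'
  obtain ⟨hk1, hk2⟩ := mem_Icc.1 hk
  have key : ∀ i ∈ range (2 * h), ∑ i' ∈ range (2 * h),
      ((om h ^ (i * j) - om h ^ (i * (j % 2))) * (om h ^ (i' * k) - om h ^ (i' * (k % 2)))) *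
        ∑ χ : B, (th χ.1 i : ℂ) * (th χ.1 i' : ℂ) =
      ((2 * h : ℕ) : ℂ) * ((om h ^ (i * j) - om h ^ (i * (j % 2))) *
        ((om h ^ (i * k) - om h ^ (i * (k % 2))) +
          (om h ^ (i * (2 * h - k)) - om h ^ (i * (2 * h - k % 2))))) := by
    intro i hi
    have hlt := mem_range.1 hi
    by_cases hi0 : i = 0 ∨ i = h
    · simp only [R.endpoints j hi0, zero_mul, sum_const_zero, mul_zero]
    have hterm : ∀ i' ∈ range (2 * h),
        ((om h ^ (i * j) - om h ^ (i * (j % 2))) * (om h ^ (i' * k) - om h ^ (i' * (k % 2)))) *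
          ∑ χ : B, (th χ.1 i : ℂ) * (th χ.1 i' : ℂ) =
        ((om h ^ (i * j) - om h ^ (i * (j % 2))) * (om h ^ (i' * k) - om h ^ (i' * (k % 2)))) *
          (((2 * h : ℕ) : ℂ) *
            ((if i' = i then 1 else 0) + (if i' = 2 * h - i then 1 else 0))) := fun i' hi' => by
      by_cases h0 : i' = 0 ∨ i' = h
      · simp only [R.endpoints k h0, mul_zero, zero_mul]
      · rw [R.sum_th_th hlt (fun e1 => hi0 (Or.inl e1)) (fun e1 => hi0 (Or.inr e1))
          (mem_range.1 hi') (fun e1 => h0 (Or.inl e1)) fun e1 => h0 (Or.inr e1)]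
    have hω := om_spec S.h_pos
    have hex : ∀ n ≤ 2 * h, om h ^ ((2 * h - i) * n) = om h ^ (i * (2 * h - n)) := by
      intro n hn
      have hz : ∀ m, om h ^ (2 * h * m) = 1 := fun m => by rw [pow_mul, hω.pow_eq_one, one_pow]
      apply mul_right_cancel₀ (pow_ne_zero (i * n) (hω.ne_zero (by omega)))
      rw [← pow_add, ← pow_add, ← Nat.add_mul, Nat.sub_add_cancel hlt.le, ← Nat.mul_add,
        Nat.sub_add_cancel hn, mul_comm i, hz, hz]
    rw [sum_congr rfl hterm]
    simp only [mul_add, mul_ite, mul_one, mul_zero, sum_add_distrib, sum_ite_eq', mem_range, hlt,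
      if_true, show 2 * h - i < 2 * h by omega, hex k (by omega), hex (k % 2) (by omega)]
    ring
  have h1 : ((2 * h : ℕ) : ℂ) * (((2 * h : ℕ) : ℂ) *
      ∑ χ : B, (R.vec χ.1 j : ℂ) * (R.vec χ.1 k : ℂ)) =
      ((2 * h : ℕ) : ℂ) * (((2 * h : ℕ) : ℂ) *
        (((if j = k then 1 else 0) + (if j = h ∧ k = h then 1 else 0) +
          (if j % 2 = k % 2 then (if j % 2 = 0 then 2 else 1) else 0) : ℤ) : ℂ)) := by
    rw [← sum_gram hj hk, mul_sum, mul_sum, mul_sum]
    calc ∑ χ : B, ((2 * h : ℕ) : ℂ) * (((2 * h : ℕ) : ℂ) * ((R.vec χ.1 j : ℂ) * (R.vec χ.1 k : ℂ)))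
        = ∑ χ : B, ∑ i ∈ range (2 * h), ∑ i' ∈ range (2 * h),
            ((om h ^ (i * j) - om h ^ (i * (j % 2))) * (om h ^ (i' * k) - om h ^ (i' * (k % 2)))) *
              ((th χ.1 i : ℂ) * (th χ.1 i' : ℂ)) := by
          refine sum_congr rfl fun χ _ => ?_
          rw [show ((2 * h : ℕ) : ℂ) * (((2 * h : ℕ) : ℂ) *
              ((R.vec χ.1 j : ℂ) * (R.vec χ.1 k : ℂ))) =
            (((2 * h : ℕ) : ℂ) * (R.vec χ.1 j : ℂ)) * (((2 * h : ℕ) : ℂ) * (R.vec χ.1 k : ℂ))
            by ring, ← R.vec_spec, ← R.vec_spec, sum_mul_sum]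
          exact sum_congr rfl fun i _ => sum_congr rfl fun i' _ => by ring
      _ = _ := by
          rw [sum_comm]
          refine sum_congr rfl fun i hi => ?_
          rw [sum_comm, ← key i hi]
          exact sum_congr rfl fun i' _ => (mul_sum _ _ _).symm
  exact_mod_cast mul_left_cancel₀ hne (mul_left_cancel₀ hne h1)

/-- The vectors are orthogonal to the regular parts. -/
theorem sum_reg_vec (χ : B) (j : ℕ) :
    ∑ φ : B, regMat 2 B χ φ * (R.vec φ.1 j : ℂ) = 0 := by
  refine mul_left_cancel₀ R.two_h_ne' ?_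
  rw [mul_zero, mul_sum]
  simp only [mul_left_comm ((2 * h : ℕ) : ℂ), ← R.vec_spec, mul_sum]
  rw [sum_comm]
  refine sum_eq_zero fun i hi => ?_
  by_cases hi0 : i = 0 ∨ i = h
  · simp only [R.endpoints j hi0, mul_zero, sum_const_zero]
  have hlt := mem_range.1 hi
  simp only [not_or] at hi0
  have h2 := S.sum_reg R (i := min i (2 * h - i)) (mem_Ico.2 (by omega)) χ
  simp only [← R.th_red _ hlt] at h2
  simp only [← mul_assoc, ← Finset.sum_mul, h2, zero_mul]

omit [Fintype B] in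
/-- **The last vector is odd at the characters of height zero.** -/
theorem vec_h_odd {χ : IrrCharacter G} (hχ : χ ∈ B)
    (h0 : blockHeight 2 B (χ : G → ℂ) = 0) : Odd (R.vec χ h) := by
  have hh := S.h_pos
  have h2 := S.h_two
  have hω := om_spec hh
  set J := om h ^ (h / 2) with hJ
  have hJ2 : J * J = -1 := by
    rw [hJ, ← pow_add, ← two_mul, ← h2]
    exact (mul_self_eq_one_iff.1 (by rw [← pow_add, ← two_mul, hω.pow_eq_one])).resolve_left
      (fun e1 => by have := Nat.le_of_dvd hh ((hω.pow_eq_one_iff_dvd h).1 e1); omega)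
  have hre : J.re = 0 := by
    have h3 := congrArg Complex.re hJ2
    have h4 := congrArg Complex.im hJ2
    simp only [Complex.mul_re, Complex.mul_im, Complex.neg_re, Complex.one_re, Complex.neg_im,
      Complex.one_im, neg_zero] at h3 h4
    by_contra hne
    have h5 : J.im = 0 := by
      rcases mul_eq_zero.1 (show J.re * J.im = 0 by linarith) with h6 | h6
      exacts [absurd h6 hne, h6]
    rw [h5] at h3
    nlinarith
  set r : ℕ → ℤ := fun j => if j % 2 = 0 then (-1) ^ (j / 2) else 0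
  have hr : ∀ j, (J ^ j).re = (r j : ℝ) := fun j => by
    simp only [r]
    conv_lhs => rw [← Nat.div_add_mod j 2, pow_add, pow_mul, pow_two, hJ2]
    rcases Nat.mod_two_eq_zero_or_one j with e1 | e1
    · rw [e1, pow_zero, mul_one, if_pos rfl,
        show (-1 : ℂ) ^ (j / 2) = (((-1 : ℤ) ^ (j / 2) : ℤ) : ℂ) by push_cast; rfl,
        Complex.intCast_re]
    · rw [e1, pow_one, if_neg one_ne_zero,
        show (-1 : ℂ) ^ (j / 2) = ((((-1 : ℤ) ^ (j / 2) : ℤ) : ℝ) : ℂ) by push_cast; rfl,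
        Complex.re_ofReal_mul, hre]
      simp
  have hrsymm : ∀ j ∈ Ico 1 h, r (2 * h - j) * R.co χ (2 * h - j) = r j * R.co χ j := fun j hj => by
    rw [mem_Ico] at hj
    rw [R.co_symm χ (by omega)]
    congr 1
    have h5 : J ^ (2 * h - j) = conj (J ^ j) := by
      rw [hJ, ← pow_mul, ← pow_mul, R.om_conj (by omega)]
    exact_mod_cast (show ((r (2 * h - j) : ℝ)) = (r j : ℝ) by rw [← hr, ← hr, h5, Complex.conj_re])
  obtain ⟨n, hn, hpar⟩ : ∃ n : ℤ, (th χ (h / 2) : ℝ) = (n : ℝ) ∧ (Odd n ↔ Odd (R.vec χ h)) := by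
    refine ⟨∑ j ∈ range (2 * h), r j * R.co χ j, ?_, ?_⟩
    · have h3 := congrArg Complex.re (R.th_eq χ (i := h / 2) (by omega))
      rw [Complex.ofReal_re, Complex.re_sum] at h3
      rw [h3]
      push_cast
      refine sum_congr rfl fun j _ => ?_
      rw [pow_mul, ← hJ, ← Complex.ofReal_intCast, Complex.re_ofReal_mul, hr, mul_comm]
    · have hrh : Odd (r h) := by
        simp only [r, if_pos (show h % 2 = 0 by omega)]
        exact Odd.pow (by decide)
      rw [sum_symm hh (fun j => r j * R.co χ j) hrsymm, vec, show h % 2 = 0 by omega,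
        nsmul_eq_mul, show r 0 = 1 by simp [r], one_mul]
      simp only [Nat.cast_ofNat, parity_simps, ← Int.not_even_iff_odd,
        show ¬ Even (r h) from Int.not_even_iff_odd.2 hrh]
      tauto
  rw [← hpar]
  have hwσ : σ ^ (h / 2) ∈ Z[σ] := Subgroup.npow_mem_zpowers σ _
  have hw2 : σ ^ (h / 2) * σ ^ (h / 2) ≠ 1 := by rw [S.w_sq]; exact S.z_ne_one
  have hwD := S.pow_mem_D (h / 2)
  obtain ⟨f, hf, hfe, hind⟩ := exists_sub S.hM S.hB S.hmax hwD
  obtain ⟨-, hcard⟩ := isDefectGroup_sub S.hM S.hB S.hmax hwD hf hfe fun g hg => by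
    rw [S.card_centralizer_rot hwσ hw2]
    obtain ⟨hvD, hfus⟩ := fus_of_carries S.pair hwD hg
    by_cases hv : g * σ ^ (h / 2) * g⁻¹ ∈ Z[σ]
    · rw [S.card_centralizer_rot hv]
      rw [show g * σ ^ (h / 2) * g⁻¹ * (g * σ ^ (h / 2) * g⁻¹) =
        g * (σ ^ (h / 2) * σ ^ (h / 2)) * g⁻¹ by group]
      exact fun e1 => hw2 (conj_eq_one_iff.1 e1)
    · rw [S.card_centralizer_refl hvD hv]
      omega
  rw [S.card_centralizer_rot hwσ hw2] at hcard
  have hu := scaled_contrib_unit S.hM (CfsgLib.BlockB.centralizer_zpowers_eq _)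
    (k := 2) (by rw [S.orderOf_four S.w_sq]; norm_num) hind hχ hχ h0 h0
  rw [← contribR_idemIn S.hM χ χ (mem_pSet_of_mem S.pair hwD) hf, hfe,
    R.contrib χ χ (h / 2) (by omega) (by omega) (by omega), ← Nat.cast_pow, hcard, hn,
    mul_left_comm, mul_inv_cancel₀ R.two_h_ne', mul_one, Complex.ofReal_intCast,
    ← Int.cast_mul] at hu
  rw [← Int.not_even_iff_odd, even_iff_two_dvd]
  exact fun hd => hu ((memLocalIdeal_intCast_iff S.hM).2 (by exact_mod_cast dvd_mul_of_dvd_left hd _))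

end RotVals

end CfsgLib.QuatDefect
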