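import Cfsg.Agent.BlocksB.QuatDefect.Local

/-!
# A block with quaternion defect group: the decomposition along the subsections
-/

set_option autoImplicit false
set_option linter.style.haveILetI false
set_option linter.unusedSectionVars false

namespace CfsgLib.QuatDefect

open Cfsg Finset CfsgLib.Block CfsgLib.Block.Chr CfsgLib.BrauerPairs CfsgLib.BlockStar
  CfsgLib.BlockB CfsgLib.Char
open CfsgLib.DihDefect (orb mem_orb orb_subset orb_eq_of_inter card_orb pairSet mem_pairSet)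
open scoped ComplexConjugate
open scoped Classical

universe u

variable {M : Ideal AlgInt} [M.IsPrime] [Fact (Nat.Prime 2)] [CharP (Residue M) 2]
  {G : Type u} [Group G] [Fintype G]

local notation "𝕜" => Residue M
local notation "Z[" x "]" => Subgroup.zpowers x
local notation "C[" Q "]" => Subgroup.centralizer (SetLike.coe Q)

/-- The contribution of the subsection of an element below the maximal pair. -/
noncomputable def ctr (D : Subgroup G) (e : MonoidAlgebra 𝕜 G) (v : G)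
    (χ ψ : IrrCharacter G) : ℂ :=
  contribR 2 χ ψ v (subBlk 2 D e v)

variable {B : Set (IrrCharacter G)} {D : Subgroup G} {e : MonoidAlgebra (Residue M) G}
  {σ τ : G} {h : ℕ}

namespace QuatData

variable (S : QuatData (M := M) B D e σ τ h)
include S

theorem sq_ne_of_oth {v : G} (hv : v ∈ S.oth) : v * v ≠ 1 := by
  obtain ⟨h1, h2, -⟩ := S.oth_props hv
  rw [S.refl_sq h1 h2]; exact S.z_ne_one

/-- Different representatives are not carried onto each other. -/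
theorem rep_not_fus {u v : G} (hu : u ∈ S.reps) (hv : v ∈ S.reps) (hfus : Fus D e u v) :
    u = v := by
  have hz : ∀ x ∈ S.reps, orderOf x = 2 → x = σ ^ h := by
    intro x hx h2
    rcases S.mem_reps.1 hx with rfl | ⟨i, hi, rfl⟩ | hx
    · rfl
    · obtain ⟨h3, h4⟩ := mem_Ico.1 hi
      exact absurd (CfsgLib.Invol.mul_self_eq_one h2)
        (S.rot_sq_ne (by omega) (by omega) (by omega))
    · exact absurd (CfsgLib.Invol.mul_self_eq_one h2) (S.sq_ne_of_oth hx)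
  have hrot : ∀ i ∈ Ico 1 h, ∀ x ∈ S.oth, ¬ Fus D e (σ ^ i) x := by
    intro i hi x hx hf
    obtain ⟨h1, h2, h3⟩ := S.oth_props hx
    obtain ⟨h4, h5⟩ := mem_Ico.1 hi
    have h6 := S.sq_of_four (S.pow_mem_D i)
      (hf.orderOf_eq.trans (S.orderOf_four (S.refl_sq h1 h2)))
    rcases S.eq_w (Subgroup.npow_mem_zpowers σ i) h6 with e1 | e1
    · exact h3 (e1 ▸ hf).symm
    · rw [eq_inv_iff_mul_eq_one, ← pow_add, S.pow_eq_one] at e1
      have := Nat.le_of_dvd (by omega) e1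
      have := S.h_two; omega
  rcases S.mem_reps.1 hu with rfl | ⟨i, hi, rfl⟩ | hu'
  · exact (hz v hv (hfus.orderOf_eq.symm.trans S.orderOf_z)).symm
  · rcases S.mem_reps.1 hv with rfl | ⟨j, hj, rfl⟩ | hv'
    · exact hz _ hu (hfus.orderOf_eq.trans S.orderOf_z)
    · rw [S.rot_not_fus hi hj hfus]
    · exact absurd hfus (hrot i hi v hv')
  · rcases S.mem_reps.1 hv with rfl | ⟨j, hj, rfl⟩ | hv'
    · exact hz _ hu (hfus.orderOf_eq.trans S.orderOf_z)
    · exact absurd hfus.symm (hrot j hj u hu')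
    · exact S.oth_not_fus hu' hv' hfus

theorem rep_blk {v : G} (hv : v ∈ D) : IsBlk 𝕜 C[Z[v]] (subBlk 2 D e v) :=
  (PLE.isPair (subBlk_ple S.pair hv) S.pair).2

/-- **Sums over the pairs of the block are sums over the representatives.** -/
theorem pair_split (F : G → MonoidAlgebra 𝕜 G → ℂ)
    (hF0 : ∀ x ∈ pSet 2 G, ∀ f ∈ blks M x, ¬ IsPairOf 2 (idem M B) (Z[x], f) → F x f = 0)
    (hFG : ∀ x ∈ pSet 2 G, ∀ f ∈ blks M x, ∀ g, F (g * x * g⁻¹) (cj 𝕜 g f) = F x f) :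
    (Nat.card G : ℂ)⁻¹ * ∑ x ∈ pSet 2 G, (Nat.card C[Z[x]] : ℂ) * ∑ f ∈ blks M x, F x f =
      ∑ f ∈ blks M (1 : G), F 1 f + ∑ v ∈ S.reps, F v (subBlk 2 D e v) := by
  have hG : (Nat.card G : ℂ) ≠ 0 := Nat.cast_ne_zero.2 Nat.card_pos.ne'
  set T : (_ : G) × MonoidAlgebra 𝕜 G → ℂ := fun t => (Nat.card C[Z[t.1]] : ℂ) * F t.1 t.2
  have h1 : ∑ x ∈ pSet 2 G, (Nat.card C[Z[x]] : ℂ) * ∑ f ∈ blks M x, F x f =
      ∑ t ∈ pairSet 2 M G, T t := by
    rw [pairSet, sum_sigma]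
    exact sum_congr rfl fun x _ => mul_sum _ _ _
  have hone : ∑ t ∈ (pairSet 2 M G).filter (fun t => t.1 = 1), T t =
      (Nat.card G : ℂ) * ∑ f ∈ blks M (1 : G), F 1 f := by
    have hC : Nat.card C[Z[(1 : G)]] = Nat.card G := by
      rw [Subgroup.zpowers_one_eq_bot, centralizer_bot, Subgroup.card_top]
    have h1m : (1 : G) ∈ pSet 2 G := mem_pSet.2 ⟨0, by simp⟩
    rw [mul_sum]
    refine sum_bij' (fun t _ => t.2) (fun d _ => ⟨1, d⟩) ?_ ?_ ?_ ?_ ?_
    · rintro ⟨x, d⟩ ht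
      obtain ⟨h1, h2⟩ := mem_filter.1 ht
      have h3 : x = 1 := h2
      subst h3
      exact (mem_sigma.1 h1).2
    · intro d hd
      exact mem_filter.2 ⟨mem_sigma.2 ⟨h1m, hd⟩, rfl⟩
    · rintro ⟨x, d⟩ ht
      have h3 : x = 1 := (mem_filter.1 ht).2
      subst h3
      rfl
    · intro d _; rfl
    · rintro ⟨x, d⟩ ht
      have h3 : x = 1 := (mem_filter.1 ht).2
      subst h3
      simp only [T, hC]
  have hpS : ∀ v ∈ S.reps, v ∈ pSet 2 G := fun v hv => mem_pSet_of_mem S.pair (S.reps_mem hv).1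
  have hsub : S.reps.biUnion (fun v => orb v (subBlk 2 D e v)) ⊆
      (pairSet 2 M G).filter fun t => ¬ t.1 = 1 := fun t ht => by
    obtain ⟨v, hv, htv⟩ := mem_biUnion.1 ht
    refine mem_filter.2 ⟨orb_subset (hpS v hv) (S.rep_blk (S.reps_mem hv).1) htv, ?_⟩
    obtain ⟨x, d⟩ := t
    obtain ⟨g, hx, -⟩ := mem_orb.1 htv
    intro e1
    exact (S.reps_mem hv).2 (conj_eq_one_iff.1 (hx.trans e1))
  have hout : ∀ t ∈ (pairSet 2 M G).filter (fun t => ¬ t.1 = 1),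
      t ∉ S.reps.biUnion (fun v => orb v (subBlk 2 D e v)) → T t = 0 := by
    rintro ⟨x, f⟩ ht hn
    obtain ⟨ht1, hx1⟩ := mem_filter.1 ht
    obtain ⟨hx, hf⟩ := mem_sigma.1 ht1
    by_cases hp : IsPairOf 2 (idem M B) (Z[x], f)
    · obtain ⟨a, ha⟩ := exists_conj_ple_max (isBlk_idem S.hM S.hB) S.hmax hp
      rw [cjPair_zpowers] at ha
      have huD : a * x * a⁻¹ ∈ D := PLE.le ha (Subgroup.mem_zpowers _)
      have hfE : cj 𝕜 a f = subBlk 2 D e (a * x * a⁻¹) :=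
        ple_unique S.pair ha (subBlk_ple S.pair huD)
      obtain ⟨v, hv, g, hg, hgf⟩ := S.exists_rep huD fun e1 => hx1 (conj_eq_one_iff.1 e1)
      refine absurd (mem_biUnion.2 ⟨v, hv, mem_orb.2 ⟨(g * a)⁻¹, ?_, ?_⟩⟩) hn
      · rw [← hg]; group
      · rw [← hgf, ← hfE, ← cj_mul g a f, cj_inv_cj]
    · simp only [T, hF0 x hx f hf hp, mul_zero]
  have horb : ∀ v ∈ S.reps, ∑ t ∈ orb v (subBlk 2 D e v), T t =
      (Nat.card G : ℂ) * F v (subBlk 2 D e v) := by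
    intro v hv
    have hblk := S.rep_blk (S.reps_mem hv).1
    rw [sum_eq_card_nsmul (b := (Nat.card C[Z[v]] : ℂ) * F v (subBlk 2 D e v)), nsmul_eq_mul,
      ← mul_assoc, ← Nat.cast_mul, card_orb hblk]
    rintro ⟨x, d⟩ ht
    obtain ⟨g, rfl, rfl⟩ := mem_orb.1 ht
    have hC : C[Z[v]].map (MulAut.conj g).toMonoidHom = C[Z[g * v * g⁻¹]] := by
      rw [map_conj_centralizer, MonoidHom.map_zpowers]; rfl
    simp only [T]
    rw [hFG v (hpS v hv) _ (mem_blks.2 hblk) g, ← hC,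
      Subgroup.card_map_of_injective (MulEquiv.injective _)]
  rw [h1, ← sum_filter_add_sum_filter_not (pairSet 2 M G) (fun t => t.1 = 1), hone,
    ← sum_subset hsub hout, sum_biUnion, sum_congr rfl horb, ← mul_sum, ← mul_add,
    inv_mul_cancel_left₀ hG]
  intro u hu v hv hne
  rw [Function.onFun, disjoint_left]
  rintro ⟨x, d⟩ h2 h3
  exact hne (S.rep_not_fus hu hv (orb_eq_of_inter h2 h3))

variable [Fintype B]

/-- **The multiplicities in a weighted section function.** -/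
theorem expansion (W : G → MonoidAlgebra 𝕜 G → ℂ)
    (hW : ∀ g u f, W (g * u * g⁻¹) (cj 𝕜 g f) = W u f) (c : ℂ)
    (hc : ∀ f, IsPairOf 2 (idem M B) (Z[(1 : G)], f) → W 1 f = c) (χ ψ : B) :
    classInner (starFun 2 W χ.1) ((ψ : IrrCharacter G) : G → ℂ) =
      c * regMat 2 B χ ψ + ∑ v ∈ S.reps, W v (subBlk 2 D e v) * ctr D e v χ.1 ψ.1 := by
  have hM := S.hM
  rw [← starFun_const_one (M := M) hM ψ.1, classInner_starFun' hM,
    S.pair_split (fun x f => W x f * conj (1 : ℂ) * contribR 2 χ.1 ψ.1 x f)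
      (fun x hx f hf hn => by rw [contribR_eq_zero hM S.hB (Or.inl χ.2) hx (mem_blks.1 hf) hn,
        mul_zero])
      (fun x hx f hf g => by rw [hW, contribR_conj hM _ _ hx (mem_blks.1 hf)]),
    regMat_eq_sum hM, mul_sum]
  simp only [map_one, mul_one]
  congr 1
  refine sum_congr rfl fun f hf => ?_
  by_cases hp : IsPairOf 2 (idem M B) (Z[(1 : G)], f)
  · rw [hc f hp]
  · rw [contribR_eq_zero hM S.hB (Or.inl χ.2) (mem_pSet.2 ⟨0, by simp⟩) (mem_blks.1 hf) hp,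
      mul_zero, mul_zero]

/-- **The identity decomposes along the subsections.** -/
theorem delta (χ ψ : B) :
    (if χ = ψ then 1 else 0 : ℂ) = regMat 2 B χ ψ + ∑ v ∈ S.reps, ctr D e v χ.1 ψ.1 := by
  have h1 := S.expansion (fun _ _ => 1) (fun _ _ _ => rfl) 1 (fun _ _ => rfl) χ ψ
  rw [starFun_const_one (M := M) S.hM, classInner_irr] at h1
  simp only [one_mul, ← Subtype.ext_iff] at h1
  exact h1

theorem ctr_idem {v : G} (hv : v ∈ D) (χ φ : IrrCharacter G) :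
    ∑ ψ : B, ctr D e v χ ψ.1 * ctr D e v ψ.1 φ = ctr D e v χ φ :=
  contribR_idem S.hM S.hB S.hmax hv χ φ

theorem ctr_conj (v : G) (χ φ : IrrCharacter G) :
    conj (ctr D e v χ φ) = ctr D e v φ χ :=
  conj_contribR χ φ v _

/-- The subsections and the regular part are orthogonal. -/
theorem orth_opt {i j : Option G} (hi : i ∈ Finset.insertNone S.reps)
    (hj : j ∈ Finset.insertNone S.reps) (hne : i ≠ j) (χ φ : B) :
    ∑ ψ : B, (i.elim (regMat 2 B χ ψ) fun v => ctr D e v χ.1 ψ.1) *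
      (j.elim (regMat 2 B ψ φ) fun v => ctr D e v ψ.1 φ.1) = 0 := by
  refine proj_orth (Finset.insertNone S.reps)
    (fun (k : Option G) (a b : B) => k.elim (regMat 2 B a b) fun v => ctr D e v a.1 b.1)
    ?_ ?_ ?_ hi hj hne χ φ
  · rintro (_ | v) hv a c
    · simp only [Option.elim_none]
      rw [← Matrix.mul_apply, regMat_mul_self S.hM S.hB]
    · simp only [Option.elim_some]
      exact S.ctr_idem (S.reps_mem (Finset.some_mem_insertNone.1 hv)).1 _ _
  · rintro (_ | v) _ a b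
    · simp only [Option.elim_none, regMat_eq, map_div₀, map_intCast, map_natCast]
      rw [regInt_comm]
    · simp only [Option.elim_some]
      exact S.ctr_conj v _ _
  · intro a b
    rw [Finset.sum_insertNone]
    simp only [Option.elim_none, Option.elim_some]
    convert (S.delta a b).symm

theorem orth {u v : G} (hu : u ∈ S.reps) (hv : v ∈ S.reps) (hne : u ≠ v) (χ φ : B) :
    ∑ ψ : B, ctr D e u χ.1 ψ.1 * ctr D e v ψ.1 φ.1 = 0 :=
  S.orth_opt (i := some u) (j := some v) (Finset.some_mem_insertNone.2 hu)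
    (Finset.some_mem_insertNone.2 hv) (by simpa using hne) χ φ

theorem orth_reg {v : G} (hv : v ∈ S.reps) (χ φ : B) :
    ∑ ψ : B, regMat 2 B χ ψ * ctr D e v ψ.1 φ.1 = 0 :=
  S.orth_opt (i := none) (j := some v) (Finset.none_mem_insertNone)
    (Finset.some_mem_insertNone.2 hv) (by simp) χ φ

theorem ctr_row_zero {v : G} (hv : v ∈ D) {χ : B} (h0 : ctr D e v χ.1 χ.1 = 0) (ψ : B) :
    ctr D e v χ.1 ψ.1 = 0 :=
  proj_row_zero (fun a b : B => ctr D e v a.1 b.1) (fun _ _ => S.ctr_idem hv _ _)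
    (fun _ _ => S.ctr_conj v _ _) h0 ψ

omit [Fintype B] in
/-- The three kinds of representatives. -/
theorem sum_reps {α : Type*} [AddCommMonoid α] (F : G → α) :
    ∑ v ∈ S.reps, F v = F (σ ^ h) + (∑ i ∈ Ico 1 h, F (σ ^ i) + ∑ v ∈ S.oth, F v) := by
  rw [reps, sum_insert, sum_union, sum_image]
  · intro i hi j hj he
    rw [mem_coe, mem_Ico] at hi hj
    exact S.pow_inj (by omega) (by omega) he
  · rw [disjoint_left]
    intro x hx hx'
    obtain ⟨i, -, rfl⟩ := mem_image.1 hx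
    exact (S.oth_props hx').2.1 (Subgroup.npow_mem_zpowers σ i)
  · intro hm
    rcases mem_union.1 hm with h1 | h1
    · obtain ⟨i, hi, he⟩ := mem_image.1 h1
      rw [mem_Ico] at hi
      have := S.pow_inj (by omega) (by omega) he
      omega
    · exact S.sq_ne_of_oth h1 S.z_sq

theorem rot_mem_reps {i : ℕ} (hi : i ∈ Ico 1 h) : σ ^ i ∈ S.reps :=
  S.mem_reps.2 (Or.inr (Or.inl ⟨i, hi, rfl⟩))

theorem z_mem_reps : σ ^ h ∈ S.reps := S.mem_reps.2 (Or.inl rfl)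

variable {th : IrrCharacter G → ℕ → ℝ} (R : RotVals S th)
include R

omit [Fintype B] in
theorem ctr_rot {i : ℕ} (hi : i ∈ Ico 1 h) (χ ψ : IrrCharacter G) :
    ctr D e (σ ^ i) χ ψ = (th χ i : ℂ) * (th ψ i : ℂ) * ((2 * h : ℕ) : ℂ)⁻¹ := by
  obtain ⟨h1, h2⟩ := mem_Ico.1 hi
  exact R.contrib χ ψ i (by omega) (by omega) (by omega)

omit [Fintype B] in
theorem exists_ne_zero {i : ℕ} (hi : i ∈ Ico 1 h) :
    ∃ χ : B, th χ.1 i ≠ 0 ∧ blockHeight 2 B ((χ : IrrCharacter G) : G → ℂ) = 0 := by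
  obtain ⟨χ, hχ, h0⟩ := exists_height_zero S.hM S.hB
  refine ⟨⟨χ, hχ⟩, fun e1 => ?_, h0⟩
  refine contribR_ne_zero S.hM S.hB hχ h0 S.hmax (S.pow_mem_D i) ?_
  change th χ i = 0 at e1
  rw [show contribR 2 χ χ (σ ^ i) (subBlk 2 D e (σ ^ i)) = ctr D e (σ ^ i) χ χ from rfl,
    S.ctr_rot R hi, e1]
  simp

theorem two_h_ne : ((2 * h : ℕ) : ℂ) ≠ 0 :=
  Nat.cast_ne_zero.2 (by have := S.h_pos; omega)

/-- **The squares at a rotation add up to the centralizer.** -/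
theorem sum_sq {i : ℕ} (hi : i ∈ Ico 1 h) : ∑ χ : B, th χ.1 i ^ 2 = ((2 * h : ℕ) : ℝ) := by
  obtain ⟨χ₁, hne, -⟩ := S.exists_ne_zero R hi
  have h1 := S.ctr_idem (S.pow_mem_D i) χ₁.1 χ₁.1
  simp only [S.ctr_rot R hi] at h1
  have hne' : ((th χ₁.1 i : ℂ) * (th χ₁.1 i : ℂ) * ((2 * h : ℕ) : ℂ)⁻¹) ≠ 0 :=
    mul_ne_zero (mul_ne_zero (by exact_mod_cast hne) (by exact_mod_cast hne))
      (inv_ne_zero (S.two_h_ne R))
  have h2 : (th χ₁.1 i : ℂ) * (th χ₁.1 i : ℂ) * ((2 * h : ℕ) : ℂ)⁻¹ *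
      ((∑ φ : B, (th φ.1 i : ℂ) ^ 2) * ((2 * h : ℕ) : ℂ)⁻¹) =
      (th χ₁.1 i : ℂ) * (th χ₁.1 i : ℂ) * ((2 * h : ℕ) : ℂ)⁻¹ * 1 := by
    rw [mul_one]
    refine Eq.trans ?_ h1
    rw [sum_mul, mul_sum]
    exact sum_congr rfl fun φ _ => by ring
  have h3 := mul_left_cancel₀ hne' h2
  rw [mul_inv_eq_one₀ (S.two_h_ne R)] at h3
  exact_mod_cast h3

/-- **Different rotations have orthogonal values.** -/
theorem sum_mul {i j : ℕ} (hi : i ∈ Ico 1 h) (hj : j ∈ Ico 1 h) (hne : i ≠ j) :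
    ∑ χ : B, th χ.1 i * th χ.1 j = 0 := by
  obtain ⟨χ₁, hne1, -⟩ := S.exists_ne_zero R hi
  obtain ⟨χ₂, hne2, -⟩ := S.exists_ne_zero R hj
  have h1 := S.orth (S.rot_mem_reps hi) (S.rot_mem_reps hj)
    (fun he => hne (by
      rw [mem_Ico] at hi hj
      exact S.pow_inj (by omega) (by omega) he)) χ₁ χ₂
  simp only [S.ctr_rot R hi, S.ctr_rot R hj] at h1
  apply Complex.ofReal_injective
  rw [Complex.ofReal_zero, Complex.ofReal_sum]
  refine mul_left_cancel₀ (b := ∑ χ : B, ((th χ.1 i * th χ.1 j : ℝ) : ℂ))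
    (a := (th χ₁.1 i : ℂ) * (th χ₂.1 j : ℂ) * ((2 * h : ℕ) : ℂ)⁻¹ * ((2 * h : ℕ) : ℂ)⁻¹) ?_ ?_
  · have := S.two_h_ne R
    exact mul_ne_zero (mul_ne_zero (mul_ne_zero (by exact_mod_cast hne1) (by exact_mod_cast hne2))
      (inv_ne_zero this)) (inv_ne_zero this)
  · rw [mul_zero, ← h1, mul_sum]
    exact sum_congr rfl fun φ _ => by push_cast; ring

/-- **The values are orthogonal to the regular parts.** -/
theorem sum_reg {i : ℕ} (hi : i ∈ Ico 1 h) (χ : B) :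
    ∑ φ : B, regMat 2 B χ φ * (th φ.1 i : ℂ) = 0 := by
  obtain ⟨χ₁, hne1, -⟩ := S.exists_ne_zero R hi
  have h1 := S.orth_reg (S.rot_mem_reps hi) χ χ₁
  simp only [S.ctr_rot R hi] at h1
  refine mul_right_cancel₀ (b := (th χ₁.1 i : ℂ) * ((2 * h : ℕ) : ℂ)⁻¹)
    (mul_ne_zero (by exact_mod_cast hne1) (inv_ne_zero (S.two_h_ne R))) ?_
  rw [zero_mul, ← h1, Finset.sum_mul]
  exact sum_congr rfl fun φ _ => by ring

theorem trace_rot {i : ℕ} (hi : i ∈ Ico 1 h) : ∑ χ : B, ctr D e (σ ^ i) χ.1 χ.1 = 1 := by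
  have h1 : ((∑ χ : B, th χ.1 i ^ 2 : ℝ) : ℂ) = ((2 * h : ℕ) : ℂ) := by
    rw [S.sum_sq R hi]; push_cast; rfl
  rw [sum_congr rfl fun χ _ => S.ctr_rot R hi χ.1 χ.1, ← Finset.sum_mul,
    ← mul_inv_cancel₀ (S.two_h_ne R), ← h1, Complex.ofReal_sum]
  congr 1
  exact sum_congr rfl fun χ _ => by push_cast; ring

omit R

/-- **The subsections outside the rotations have one Brauer character.** -/
theorem oth_facts {v : G} (hv : v ∈ S.oth) :
    ∑ χ : B, ctr D e v χ.1 χ.1 = 1 ∧ ∀ χ : B,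
      blockHeight 2 B ((χ : IrrCharacter G) : G → ℂ) = 0 →
        (4 : ℝ)⁻¹ ≤ (ctr D e v χ.1 χ.1).re := by
  obtain ⟨hvD, hvn, hvw⟩ := S.oth_props hv
  obtain ⟨f, hf, hfe, hind⟩ := exists_sub S.hM S.hB S.hmax hvD
  obtain ⟨hdf, hcard⟩ := isDefectGroup_sub S.hM S.hB S.hmax hvD hf hfe fun g hg => by
    obtain ⟨huD, hfus⟩ := fus_of_carries S.pair hvD hg
    rw [S.card_centralizer_refl hvD hvn]
    by_cases hu : g * v * g⁻¹ ∈ Z[σ]
    · exfalso
      have h2 := S.sq_of_four huD (hfus.orderOf_eq.symm.trans (S.orderOf_four (S.refl_sq hvD hvn)))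
      rcases S.eq_w hu h2 with e1 | e1
      · exact hvw (e1 ▸ hfus)
      · have h3 := fus_conj S.pair huD S.τ_mem
        rw [e1, ← conj_inv, S.τ_rot', inv_inv] at h3
        exact hvw ((e1 ▸ hfus).trans h3)
    · rw [S.card_centralizer_refl huD hu]
  rw [S.card_centralizer_refl hvD hvn] at hcard
  have hcen : (D ⊓ C[Z[v]] : Subgroup G).subgroupOf C[Z[v]] ≤ Subgroup.center C[Z[v]] := by
    intro q hq
    have hq' := Subgroup.mem_subgroupOf.1 hq
    rw [S.inf_centralizer_refl hvD hvn] at hq'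
    refine Subgroup.mem_center_iff.2 fun g => Subtype.ext ?_
    obtain ⟨r, hr⟩ := Subgroup.mem_zpowers_iff.1 hq'
    show (g : G) * (q : G) = (q : G) * (g : G)
    rw [← hr]
    exact ((show Commute (g : G) v from mem_cz.1 g.2).zpow_right r).eq
  have hl := rank_one_of_central S.hM hf hdf hcen
  refine ⟨?_, fun χ h0 => ?_⟩
  · have h1 := sum_contribR_self S.hM S.hB S.hmax hvD hf hfe
    rw [hl, Nat.cast_one] at h1
    exact h1
  have hx := mem_pSet_of_mem S.pair hvD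
  have hord := S.orderOf_four (S.refl_sq hvD hvn)
  obtain ⟨n, hn⟩ := exists_int_diag S.hM (CfsgLib.BlockB.centralizer_zpowers_eq v) hord hf χ.1
  have hu := scaled_contrib_unit S.hM (CfsgLib.BlockB.centralizer_zpowers_eq v)
    (k := 2) (by rw [hord]; norm_num) hind χ.2 χ.2 h0 h0
  rw [show ((2 : ℕ) : ℂ) = 2 from rfl, hn] at hu
  have hn0 : n ≠ 0 := fun e1 => hu (by rw [e1, Int.cast_zero]; exact memLocalIdeal_zero)
  have hc : BlockB.contrib 2 f v χ.1 χ.1 = ctr D e v χ.1 χ.1 := by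
    rw [ctr, ← hfe, contribR_idemIn S.hM _ _ hx hf]
  have h4 : (2 : ℂ) ^ blockDefect 2 f = 4 := by exact_mod_cast hcard
  rw [h4, hc] at hn
  have h5 : (4 : ℝ) * (ctr D e v χ.1 χ.1).re = (n : ℝ) := by
    have h6 := congrArg Complex.re hn
    simpa using h6
  have h7 := contribR_self_nonneg (M := M) (p := 2) χ.1 v (subBlk 2 D e v)
  change 0 ≤ (ctr D e v χ.1 χ.1).re at h7
  have h8 : (1 : ℝ) ≤ (n : ℝ) := by
    have : (0 : ℝ) ≤ (n : ℝ) := by rw [← h5]; positivity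
    have : 0 ≤ n := by exact_mod_cast this
    exact_mod_cast (show (1 : ℤ) ≤ n by omega)
  linarith

/-- **The count of the members.** -/
theorem card_eq {f : Set (IrrCharacter C[Z[σ ^ h]])} (hf : IsPBlock M f)
    (hfe : idemIn M C[Z[σ ^ h]] f = subBlk 2 D e (σ ^ h)) :
    Nat.card B = blockRank 2 B + blockRank 2 f + (h - 1) + S.oth.card := by
  obtain ⟨th, R⟩ := S.exists_rotVals
  apply Nat.cast_injective (R := ℂ)
  push_cast
  calc (Nat.card B : ℂ) = ∑ χ : B, (if χ = χ then 1 else 0 : ℂ) := by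
        simp [Nat.card_eq_fintype_card]
    _ = ∑ χ : B, regMat 2 B χ χ + ∑ v ∈ S.reps, ∑ χ : B, ctr D e v χ.1 χ.1 := by
        rw [sum_congr rfl fun χ _ => S.delta χ χ, sum_add_distrib, sum_comm (s := univ)]
    _ = (blockRank 2 B : ℂ) + (blockRank 2 f : ℂ) + ((h - 1 : ℕ) : ℂ) + (S.oth.card : ℂ) := by
        rw [← blockRank_eq_trace S.hM S.hB, S.sum_reps, sum_congr rfl fun i hi => S.trace_rot R hi,
          sum_congr rfl fun v hv => (S.oth_facts hv).1, sum_const, Nat.card_Ico, sum_const,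
          nsmul_one, nsmul_one,
          show ∑ χ : B, ctr D e (σ ^ h) χ.1 χ.1 = (blockRank 2 f : ℂ) from
            sum_contribR_self S.hM S.hB S.hmax (S.pow_mem_D h) hf hfe]
        ring

/-- In rank one a value at the identity decides the contribution. -/
theorem ctr_eq_zero_of_val {v : G} (hv : v ∈ D) (htr : ∑ χ : B, ctr D e v χ.1 χ.1 = 1)
    {χ : IrrCharacter G} (h0 : val χ v 1 (subBlk 2 D e v) = 0) : ctr D e v χ χ = 0 := by
  obtain ⟨f, hf, hfe, -⟩ := exists_sub S.hM S.hB S.hmax hv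
  have hl : blockRank 2 f = 1 := by
    have h1 := (sum_contribR_self S.hM S.hB S.hmax hv hf hfe).symm.trans htr
    exact_mod_cast h1
  have hs : PElt 2 v (1 : G) := ⟨mem_pSet.1 (mem_pSet_of_mem S.pair hv),
    by rw [orderOf_one]; exact Nat.prime_two.not_dvd_one, Commute.one_right _⟩
  rw [← hfe, val_idemIn S.hM χ hs hf] at h0
  rw [ctr, ← hfe, contribR_idemIn S.hM χ χ (mem_pSet_of_mem S.pair hv) hf]
  exact contrib_eq_zero_of_one S.hM hf hl h0

end QuatData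

end CfsgLib.QuatDefect
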