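import Cfsg.Agent.BlocksB.DihedralDefect.Local
import Cfsg.Agent.BlocksB.DihedralDefect.Pairs
import Cfsg.Agent.BlocksB.Cyclic.Values
import Cfsg.Agent.BlocksB.SubsectionUnit

/-!
# General facts on subsections: orthogonality, central elements, rank one
-/

set_option autoImplicit false
set_option linter.style.haveILetI false
set_option linter.unusedSectionVars false

namespace CfsgLib.QuatDefect

open Cfsg Finset CfsgLib.Block CfsgLib.Block.Chr CfsgLib.BrauerPairs CfsgLib.BlockStar
  CfsgLib.BlockB CfsgLib.Cyclic CfsgLib.Char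
open scoped ComplexConjugate
open scoped Classical

universe u

/-- Hermitian idempotents adding up to the identity are orthogonal. -/
theorem proj_orth {ι α : Type*} [Fintype α] (s : Finset ι) (P : ι → α → α → ℂ)
    (hidem : ∀ i ∈ s, ∀ a c, ∑ b, P i a b * P i b c = P i a c)
    (hherm : ∀ i ∈ s, ∀ a b, conj (P i a b) = P i b a)
    (hsum : ∀ a b, ∑ i ∈ s, P i a b = if a = b then 1 else 0)
    {i j : ι} (hi : i ∈ s) (hj : j ∈ s) (hne : i ≠ j) (a c : α) :
    ∑ b, P i a b * P j b c = 0 := by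
  set X : ι → α → α → ℂ := fun k a c => ∑ b, P i a b * P k b c
  have hconj : ∀ k ∈ s, ∀ b, ∑ b', P k b b' * P i b' a = conj (X k a b) := fun k hk b => by
    rw [map_sum]
    exact sum_congr rfl fun b' _ => by rw [map_mul, hherm i hi, hherm k hk, mul_comm]
  have htwice : ∀ k ∈ s, ∑ b, X k a b * conj (X k a b) = ∑ b, X k a b * P i b a := by
    intro k hk
    simp only [← hconj k hk]
    calc ∑ b, X k a b * ∑ b', P k b b' * P i b' a
        = ∑ b', (∑ b, X k a b * P k b b') * P i b' a := by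
          simp only [mul_sum, sum_mul]
          rw [sum_comm]
          exact sum_congr rfl fun _ _ => sum_congr rfl fun _ _ => by ring
      _ = ∑ b', X k a b' * P i b' a := by
          refine sum_congr rfl fun b' _ => congrArg (· * _) ?_
          simp only [X, sum_mul]
          rw [sum_comm]
          refine sum_congr rfl fun b _ => ?_
          rw [← hidem k hk b b', mul_sum]
          exact sum_congr rfl fun _ _ => by ring
  have h1 : ∑ k ∈ s, ∑ b, X k a b * conj (X k a b) = P i a a := by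
    rw [sum_congr rfl htwice, sum_comm, ← hidem i hi a a]
    refine sum_congr rfl fun b _ => ?_
    rw [← sum_mul]
    congr 1
    simp only [X]
    rw [sum_comm, sum_congr rfl fun b' _ => show ∑ k ∈ s, P i a b' * P k b' b =
      P i a b' * (if b' = b then 1 else 0) by rw [← mul_sum, hsum]]
    simp
  have hi' : ∑ b, X i a b * conj (X i a b) = P i a a := by
    rw [htwice i hi, ← hidem i hi a a]
    exact sum_congr rfl fun b _ => by rw [show X i a b = P i a b from hidem i hi a b]
  rw [← add_sum_erase _ _ hi, hi', add_eq_left] at h1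
  have h3 : ∑ k ∈ s.erase i, ∑ b, ‖X k a b‖ ^ 2 = (0 : ℝ) := by
    apply Complex.ofReal_injective
    rw [Complex.ofReal_zero, ← h1, Complex.ofReal_sum]
    refine sum_congr rfl fun k _ => ?_
    rw [Complex.ofReal_sum]
    exact sum_congr rfl fun b _ => by rw [Complex.mul_conj', Complex.ofReal_pow]
  have h4 := (sum_eq_zero_iff_of_nonneg fun k _ => sum_nonneg fun b _ => sq_nonneg _).1 h3 j
    (mem_erase.2 ⟨hne.symm, hj⟩)
  have h5 := (sum_eq_zero_iff_of_nonneg fun b _ => sq_nonneg _).1 h4 c (mem_univ _)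
  exact norm_eq_zero.1 ((pow_eq_zero_iff two_ne_zero).1 h5)

/-- A vanishing diagonal entry of a hermitian idempotent kills its row. -/
theorem proj_row_zero {α : Type*} [Fintype α] (P : α → α → ℂ)
    (hidem : ∀ a c, ∑ b, P a b * P b c = P a c) (hherm : ∀ a b, conj (P a b) = P b a)
    {a : α} (h0 : P a a = 0) (b : α) : P a b = 0 := by
  have h1 : ∑ b, ‖P a b‖ ^ 2 = (0 : ℝ) := by
    apply Complex.ofReal_injective
    rw [Complex.ofReal_zero, ← h0, ← hidem a a, Complex.ofReal_sum]
    exact sum_congr rfl fun b _ => by rw [Complex.ofReal_pow, ← Complex.mul_conj', hherm]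
  have h2 := (sum_eq_zero_iff_of_nonneg fun b _ => sq_nonneg _).1 h1 b (mem_univ _)
  exact norm_eq_zero.1 ((pow_eq_zero_iff two_ne_zero).1 h2)

/-- Pairwise orthogonal nonzero integral vectors are at most as many as the coordinates. -/
theorem card_le_of_orth {ι X : Type*} [Fintype ι] (s : Finset X) (w : ι → X → ℤ)
    (horth : ∀ i j, i ≠ j → ∑ x ∈ s, w i x * w j x = 0) (hne : ∀ i, ∃ x ∈ s, w i x ≠ 0) :
    Fintype.card ι ≤ s.card := by
  let f : ι → s → ℚ := fun i x => (w i x.1 : ℚ)
  have hli : LinearIndependent ℚ f := by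
    refine Fintype.linearIndependent_iff.2 fun c hc j => ?_
    have h1 : ∑ i, c i * ∑ x : s, f i x * f j x = 0 := by
      have h2 : ∀ x : s, ∑ i, c i * f i x = 0 := fun x => by
        have h3 := congrFun hc x
        simpa [Finset.sum_apply] using h3
      calc ∑ i, c i * ∑ x : s, f i x * f j x = ∑ x : s, (∑ i, c i * f i x) * f j x := by
            simp only [mul_sum, sum_mul]
            rw [sum_comm]
            exact sum_congr rfl fun _ _ => sum_congr rfl fun _ _ => by ring
        _ = 0 := by simp [h2]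
    have hij : ∀ i, ∑ x : s, f i x * f j x = ((∑ x ∈ s, w i x * w j x : ℤ) : ℚ) := fun i => by
      rw [← sum_coe_sort s fun x => w i x * w j x, Int.cast_sum]
      exact sum_congr rfl fun x _ => by simp only [f]; push_cast; rfl
    rw [sum_eq_single j (fun i _ hne' => by rw [hij, horth i j hne', Int.cast_zero, mul_zero])
      (fun hn => absurd (mem_univ _) hn), hij, mul_eq_zero] at h1
    refine h1.resolve_right fun h2 => ?_
    obtain ⟨x, hx, hx0⟩ := hne j
    have h3 := (sum_eq_zero_iff_of_nonneg fun y _ => mul_self_nonneg (w j y)).1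
      (Int.cast_eq_zero.1 h2) x hx
    exact hx0 (mul_self_eq_zero.1 h3)
  have h := hli.fintype_card_le_finrank
  rwa [Module.finrank_pi, Fintype.card_coe] at h

variable {M : Ideal AlgInt} [M.IsPrime] {p : ℕ} [Fact p.Prime] [CharP (Residue M) p]
  {G : Type u} [Group G] [Fintype G]

local notation "𝕜" => Residue M
local notation "Z[" x "]" => Subgroup.zpowers x
local notation "C[" Q "]" => Subgroup.centralizer (SetLike.coe Q)

variable {B : Set (IrrCharacter G)}

/-- At a central element only the idempotent of the block gives a pair of the block. -/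
theorem eq_idem_of_pair (hM : IsPModular p M) (hB : IsPBlock M B) {x : G}
    (htop : C[Z[x]] = (⊤ : Subgroup G)) {d : MonoidAlgebra 𝕜 G} (hd : IsBlk 𝕜 C[Z[x]] d)
    (hp : IsPairOf p (idem M B) (Z[x], d)) : d = idem M B := by
  have h1 : br Z[x] (idem M B) * d = d := hp.2
  rw [br_eq_self (by rw [htop]; exact suppIn_top _)] at h1
  rw [htop] at hd
  by_contra hne
  have h2 := hd.mul_eq_zero_of_ne (alg_comm (k := 𝕜) (le_refl _)) (isBlk_idem hM hB) hne
  rw [← alg_comm (k := 𝕜) (le_refl _) _ (isBlk_idem hM hB).mem _ hd.mem] at h2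
  exact hd.ne_zero (h1.symm.trans h2)

/-- The value at a central element and the idempotent of the block. -/
theorem val_central (hM : IsPModular p M) (hB : IsPBlock M B) {χ : IrrCharacter G} (hχ : χ ∈ B)
    {x s : G} (h : PElt p x s) (htop : C[Z[x]] = (⊤ : Subgroup G)) :
    val χ x s (idem M B) = (χ : G → ℂ) (x * s) := by
  have hε : IsBlk 𝕜 C[Z[x]] (idem M B) := htop.symm ▸ isBlk_idem hM hB
  rw [← wsum_const_one (M := M) hM χ h, wsum, sum_eq_single (idem M B)]
  · rw [br_one, one_mul, one_mul]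
  · intro d hd hne
    rw [br_one, one_mul, one_mul]
    exact val_eq_zero_of_not_pair hM hB hχ h (mem_blks.1 hd) fun hp =>
      hne (eq_idem_of_pair hM hB htop (mem_blks.1 hd) hp)
  · exact fun hn => absurd (mem_blks.2 hε) hn

/-- The matrix of the regular parts is the contribution of the trivial element. -/
theorem regMat_eq_sum (hM : IsPModular p M) (χ ψ : B) :
    regMat p B χ ψ = ∑ f ∈ blks M (1 : G), contribR p χ.1 ψ.1 1 f := by
  have h1 : regPart p ((χ : IrrCharacter G) : G → ℂ) = starFun p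
      (fun x (_ : MonoidAlgebra 𝕜 G) => if x = 1 then (1 : ℂ) else 0) χ.1 := funext fun g => by
    obtain ⟨x, s, h, rfl⟩ := exists_pElt p g
    by_cases hx : x = 1
    · subst hx
      rw [starFun_eq _ χ.1 h rfl, wsum_one_eq hM _ χ.1 h, one_mul, regPart_of_not_dvd h.reg]
      have h2 := wsum_const_one (M := M) hM χ.1 h
      rw [wsum_one_eq hM _ χ.1 h, one_mul] at h2
      simpa using h2.symm
    · rw [starFun_eq _ χ.1 h rfl, wsum_one_eq hM _ χ.1 h, regPart_of_dvd ?_]
      · simp [hx]
      · obtain ⟨j, hj⟩ := orderOf_eq_pow h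
        have hj0 : j ≠ 0 := fun e => hx (orderOf_eq_one_iff.1 (by rw [hj, e, pow_zero]))
        rw [h.comm.orderOf_mul_eq_mul_orderOf_of_coprime (by
          rw [hj]; exact ((Fact.out : p.Prime).coprime_iff_not_dvd.2 h.reg).pow_left j), hj]
        exact dvd_mul_of_dvd_left (dvd_pow_self p hj0) _
  have h1m : (1 : G) ∈ pSet p G := mem_pSet.2 ⟨0, by simp⟩
  have hC : Nat.card C[Z[(1 : G)]] = Nat.card G := by
    rw [Subgroup.zpowers_one_eq_bot, centralizer_bot, Subgroup.card_top]
  rw [regMat, h1, ← starFun_const_one (M := M) hM ψ.1, classInner_starFun' hM,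
    sum_eq_single_of_mem (1 : G) h1m (fun x _ hx => by simp [hx]),
    hC, ← mul_assoc, inv_mul_cancel₀ (Nat.cast_ne_zero.2 Nat.card_pos.ne'), one_mul]
  exact sum_congr rfl fun f _ => by simp

/-- The diagonal contribution is a sum of squares. -/
theorem contribR_self (χ : IrrCharacter G) (x : G) (f : MonoidAlgebra 𝕜 G) :
    contribR p χ χ x f = (((Nat.card C[Z[x]] : ℝ)⁻¹ *
      ∑ s ∈ univ.filter (fun s : G => s ∈ C[Z[x]] ∧ ¬ p ∣ orderOf s), ‖val χ x s f‖ ^ 2 : ℝ) : ℂ) := by
  rw [contribR]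
  push_cast
  congr 1
  exact sum_congr rfl fun s _ => by rw [Complex.mul_conj']

theorem contribR_self_nonneg (χ : IrrCharacter G) (x : G) (f : MonoidAlgebra 𝕜 G) :
    0 ≤ (contribR p χ χ x f).re := by
  rw [contribR_self, Complex.ofReal_re]
  exact mul_nonneg (inv_nonneg.2 (Nat.cast_nonneg _)) (sum_nonneg fun _ _ => sq_nonneg _)

theorem val_eq_zero_of_contribR {χ : IrrCharacter G} {x : G} {f : MonoidAlgebra 𝕜 G}
    (h : contribR p χ χ x f = 0) {s : G} (hs : s ∈ C[Z[x]]) (hreg : ¬ p ∣ orderOf s) :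
    val χ x s f = 0 := by
  rw [contribR_self, Complex.ofReal_eq_zero, mul_eq_zero] at h
  have h1 := (sum_eq_zero_iff_of_nonneg fun _ _ => sq_nonneg _).1
    (h.resolve_left (inv_ne_zero (Nat.cast_ne_zero.2 Nat.card_pos.ne'))) s
    (mem_filter.2 ⟨mem_univ _, hs, hreg⟩)
  exact norm_eq_zero.1 ((pow_eq_zero_iff two_ne_zero).1 h1)

theorem conj_contribR (χ ψ : IrrCharacter G) (x : G) (f : MonoidAlgebra 𝕜 G) :
    conj (contribR p χ ψ x f) = contribR p ψ χ x f := by
  simp only [contribR, map_mul, map_inv₀, map_natCast, map_sum, Complex.conj_conj]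
  congr 1
  exact sum_congr rfl fun g _ => mul_comm _ _

/-- Values at the product with a central element acting by a scalar. -/
theorem val_mul_scalar (hM : IsPModular p M) {χ : IrrCharacter G} {z u s : G} {c : ℂ}
    (hc : ∀ g : G, (χ : G → ℂ) (z * g) = c * (χ : G → ℂ) g) (hz : ∀ g : G, z * g = g * z)
    (h : PElt p u s) (h' : PElt p (z * u) s) (hZ : Z[z * u] = Z[u])
    {ε : MonoidAlgebra 𝕜 G} (hε : IsBlk 𝕜 C[Z[u]] ε) :
    val χ (z * u) s ε = c * val χ u s ε := by
  have hT := hε.fixBy.mono (sup_le_cz h)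
  obtain ⟨b, hb, hbred, hbT⟩ := exists_lift (M := M) (Z[u] ⊔ Z[s]) hε.idem hT
  have hs := hbT s (Subgroup.mem_sup_right (Subgroup.mem_zpowers s))
  have hT' : FixBy (Z[z * u] ⊔ Z[s]) ε := by rw [hZ]; exact hT
  rw [val_eq hM χ h' hb (hbT _ (Subgroup.mem_sup_left (hZ ▸ Subgroup.mem_zpowers (z * u)))) hs
      hε.idem hT' (by rw [hbred]),
    val_eq hM χ h hb (hbT u (Subgroup.mem_sup_left (Subgroup.mem_zpowers u))) hs hε.idem hT
      (by rw [hbred]), sval, sval, mul_sum]
  refine sum_congr rfl fun g _ => ?_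
  rw [show g * (s * (z * u)) = z * (g * (s * u)) by
    rw [← mul_assoc s, ← hz s, mul_assoc z, ← mul_assoc g, ← hz g, mul_assoc], hc]
  ring

/-- A set of members with orthogonal regular parts is at most as large as the rank. -/
theorem card_le_blockRank (hM : IsPModular p M) (hB : IsPBlock M B) [Fintype B] (T : Finset B)
    (hd : ∀ χ ∈ T, regMat p B χ χ ≠ 0) (ho : ∀ χ ∈ T, ∀ ψ ∈ T, χ ≠ ψ → regMat p B χ ψ = 0) :
    T.card ≤ blockRank p B := by
  let v : T → LinearMap.range (regMap p B) := fun χ =>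
    ⟨regMap p B (Pi.single χ.1 1), LinearMap.mem_range_self _ _⟩
  have hrow : ∀ a b : B, regMap p B (Pi.single a 1) b = regMat p B a b := fun a b => by
    simp [regMap, Matrix.toLin'_apply]
  have hli : LinearIndependent ℂ v := by
    refine Fintype.linearIndependent_iff.2 fun c hc j => ?_
    have h1 : ∑ i : T, c i * regMat p B i.1 j.1 = 0 := by
      have h2 := congrFun (congrArg Subtype.val hc) j.1
      simpa [v, Finset.sum_apply, hrow] using h2
    rw [sum_eq_single j (fun i _ hne => by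
      rw [ho i.1 i.2 j.1 j.2 fun e1 => hne (Subtype.ext e1), mul_zero])
      (fun hn => absurd (mem_univ _) hn)] at h1
    exact (mul_eq_zero.1 h1).resolve_right (hd j.1 j.2)
  have h := hli.fintype_card_le_finrank
  rwa [Fintype.card_coe, ← blockRank_eq_finrank hM hB] at h

section sub

variable {D : Subgroup G} {e : MonoidAlgebra (Residue M) G}

/-- The block of a subsection below the maximal pair. -/
theorem exists_sub (hM : IsPModular p M) (hB : IsPBlock M B)
    (hmax : IsMaxPair p (idem M B) (D, e)) {u : G} (hu : u ∈ D) :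
    ∃ f : Set (IrrCharacter C[Z[u]]), IsPBlock M f ∧ idemIn M C[Z[u]] f = subBlk p D e u ∧
      IsInducedBlock M C[Z[u]] f B := by
  have hle := subBlk_ple hmax.1.1 hu
  obtain ⟨f, hf, hfe⟩ := exists_idemIn_eq hM (PLE.isPair hle hmax.1.1).2
  refine ⟨f, hf, hfe, ?_⟩
  have hpair : IsPairOf p (idem M B) (Z[u], idemIn M C[Z[u]] f) := by
    rw [hfe]
    exact (isPairOf_iff_of_ple (isBlk_idem hM hB) hle hmax.1.1).2 hmax.1
  exact isInducedBlock_of_isBrauerPairOf hM (zpowers_le_centralizer_zpowers _)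
    ((isBrauerPairOf_iff hM).2 ⟨⟨hpair.1.1, hf⟩, hB, hpair⟩)

theorem orderOf_pow_of_mem (hP : IsPair p (D, e)) {u : G} (hu : u ∈ D) :
    ∃ k : ℕ, orderOf u = p ^ k := by
  obtain ⟨N, hN⟩ := mem_pSet.1 (mem_pSet_of_mem hP hu)
  obtain ⟨k, -, hk⟩ := (Nat.dvd_prime_pow (Fact.out : p.Prime)).1 (orderOf_dvd_of_pow_eq_one hN)
  exact ⟨k, hk⟩

/-- The contributions of a subsection form an idempotent matrix. -/
theorem contribR_idem (hM : IsPModular p M) (hB : IsPBlock M B)
    (hmax : IsMaxPair p (idem M B) (D, e)) [Fintype B] {u : G} (hu : u ∈ D)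
    (χ φ : IrrCharacter G) :
    ∑ ψ : B, contribR p χ ψ.1 u (subBlk p D e u) * contribR p ψ.1 φ u (subBlk p D e u) =
      contribR p χ φ u (subBlk p D e u) := by
  letI := irrFintype (G := G)
  obtain ⟨f, hf, hfe, hind⟩ := exists_sub hM hB hmax hu
  obtain ⟨k, hk⟩ := orderOf_pow_of_mem hmax.1.1 hu
  have hx := mem_pSet_of_mem hmax.1.1 hu
  rw [← hfe]
  simp only [contribR_idemIn hM _ _ hx hf]
  rw [← contrib_mul hM (centralizer_zpowers_eq _) hk hind χ φ]
  exact (sum_subtype (univ.filter (· ∈ B)) (p := (· ∈ B)) (by simp)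
    (fun ψ : IrrCharacter G => BlockB.contrib p f u χ ψ * BlockB.contrib p f u ψ φ)).symm

/-- The trace of a subsection is the rank of its block. -/
theorem sum_contribR_self (hM : IsPModular p M) (hB : IsPBlock M B)
    (hmax : IsMaxPair p (idem M B) (D, e)) [Fintype B] {u : G} (hu : u ∈ D)
    {f : Set (IrrCharacter C[Z[u]])} (hf : IsPBlock M f)
    (hfe : idemIn M C[Z[u]] f = subBlk p D e u) :
    ∑ χ : B, contribR p χ.1 χ.1 u (subBlk p D e u) = (blockRank p f : ℂ) := by
  letI := irrFintype (G := G)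
  obtain ⟨f', hf', hfe', hind⟩ := exists_sub hM hB hmax hu
  obtain rfl := idemIn_injective hf' hf (hfe'.trans hfe.symm)
  obtain ⟨k, hk⟩ := orderOf_pow_of_mem hmax.1.1 hu
  rw [← sum_contrib_diag hM (centralizer_zpowers_eq _) hk hind, ← hfe]
  simp only [contribR_idemIn hM _ _ (mem_pSet_of_mem hmax.1.1 hu) hf']
  exact (sum_subtype (univ.filter (· ∈ B)) (p := (· ∈ B)) (by simp)
    (fun ψ : IrrCharacter G => BlockB.contrib p f' u ψ ψ)).symm

/-- The defect of the block of a fully centralized element. -/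
theorem isDefectGroup_sub (hM : IsPModular p M) (hB : IsPBlock M B)
    (hmax : IsMaxPair p (idem M B) (D, e)) {u : G} (hu : u ∈ D)
    {f : Set (IrrCharacter C[Z[u]])} (hf : IsPBlock M f)
    (hfe : idemIn M C[Z[u]] f = subBlk p D e u)
    (hfc : ∀ g, Carries p (D, e) Z[u] g →
      Nat.card (D ⊓ C[Z[g * u * g⁻¹]] : Subgroup G) ≤ Nat.card (D ⊓ C[Z[u]] : Subgroup G)) :
    IsDefectGroup p M f ((D ⊓ C[Z[u]] : Subgroup G).subgroupOf C[Z[u]]) ∧
      p ^ blockDefect p f = Nat.card (D ⊓ C[Z[u]] : Subgroup G) := by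
  have hP := hmax.1.1
  have hfull : (blockSystem hP).IsFullyCentralized Z[u] := by
    refine ⟨Subgroup.zpowers_le.2 hu, fun R hR => ?_⟩
    obtain ⟨g, hg, rfl⟩ := (isConj_iff_carries hP).mp hR
    rw [MonoidHom.map_zpowers]
    exact hfc g hg
  have hdm := (fullyCentralized_iff hP (isBlk_idem hM hB) hmax (subBlk_ple hP hu)).1 hfull
  rw [← hfe, ← isDefectGroup_sub_iff_of_le hM _ hf inf_le_right] at hdm
  refine ⟨hdm, ?_⟩
  rw [← card_defectGroup hM hf hdm]
  exact Nat.card_congr (Subgroup.subgroupOfEquivOfLe inf_le_right).toEquiv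

end sub

/-- In rank one a block part of a section vanishing at the identity vanishes. -/
theorem contrib_eq_zero_of_one (hM : IsPModular p M) {H : Subgroup G} [Fintype H]
    {b : Set (IrrCharacter H)} (hb : IsPBlock M b) (hl : blockRank p b = 1) {y : G}
    {χ : IrrCharacter G} (h0 : subPart p b y χ 1 = 0) : BlockB.contrib p b y χ χ = 0 := by
  letI := irrFintype (G := H)
  obtain ⟨φ, d, -, hd, -⟩ := rank_one_decomposition hM hb hl
  set c : IrrCharacter H → ℂ := fun ξ => classInner (secFun H y χ) (ξ : H → ℂ)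
  have hval : ∀ s : H, ¬ p ∣ orderOf s → subPart p b y χ s =
      (∑ ξ ∈ univ.filter (· ∈ b), c ξ * (d ξ : ℂ)) * φ s := fun s hs => by
    rw [subPart_eq_regPart hM hb, regPart_of_not_dvd hs, blockPart_eq_sum_inner, sum_mul]
    exact sum_congr rfl fun ξ hξ => by
      rw [hd ξ (mem_filter.1 hξ).2 s hs]; simp only [c]; ring
  have h1 : ¬ p ∣ orderOf (1 : H) := by rw [orderOf_one]; exact hM.1.not_dvd_one
  have hφ : φ 1 ≠ 0 := fun e1 => by
    obtain ⟨ξ, hξ⟩ := exists_mem_block hb
    exact irr_one_ne_zero ξ (by rw [hd ξ hξ 1 h1, e1, mul_zero])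
  have hA := (mul_eq_zero.1 ((hval 1 h1).symm.trans h0)).resolve_right hφ
  have hz : subPart p b y χ = 0 := funext fun s => by
    by_cases hs : p ∣ orderOf s
    · rw [subPart_eq_zero_of_dvd hM hb χ hs]; rfl
    · rw [hval s hs, hA, zero_mul]; rfl
  rw [BlockB.contrib, hz, classInner_zero_right]

/-- At an element of order four the scaled diagonal contributions are integers. -/
theorem exists_int_diag [Fact (Nat.Prime 2)] {M' : Ideal AlgInt} [M'.IsPrime]
    (hM : IsPModular 2 M') {H : Subgroup G} [Fintype H] {y : G}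
    (hH : H = Subgroup.centralizer ({y} : Set G)) (hy : orderOf y = 4)
    {b : Set (IrrCharacter H)} (hb : IsPBlock M' b) (χ : IrrCharacter G) :
    ∃ n : ℤ, (2 : ℂ) ^ blockDefect 2 b * BlockB.contrib 2 b y χ χ = (n : ℂ) := by
  letI := irrFintype (G := H)
  haveI : Fintype b := Fintype.ofFinite b
  have hy' : orderOf y = 2 ^ 2 := by rw [hy]; norm_num
  choose L N hL _ _ hLN using fun ξ : b => exists_section_coeff hM hH hy' χ ξ.1
  have hroot : ∀ ξ ξ' : b, ∃ r : ℤ, (L ξ * conj (L ξ')).re = (r : ℝ) := by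
    intro ξ ξ'
    set t := L ξ * conj (L ξ')
    have ht : t ^ 4 = 1 := by
      have h4 : ∀ η, L η ^ 4 = 1 := fun η => hL η
      rw [mul_pow, ← map_pow, h4, h4, map_one, mul_one]
    have h2 : (t ^ 2 - 1) * (t ^ 2 + 1) = 0 := by linear_combination ht
    rcases mul_eq_zero.1 h2 with e1 | e1
    · have h3 : (t - 1) * (t + 1) = 0 := by linear_combination e1
      rcases mul_eq_zero.1 h3 with e2 | e2
      · exact ⟨1, by rw [sub_eq_zero.1 e2]; simp⟩
      · exact ⟨-1, by rw [eq_neg_of_add_eq_zero_left e2]; simp⟩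
    · have h3 : (t - Complex.I) * (t + Complex.I) = 0 := by
        linear_combination e1 - Complex.I_mul_I
      rcases mul_eq_zero.1 h3 with e2 | e2
      · exact ⟨0, by rw [sub_eq_zero.1 e2]; simp⟩
      · exact ⟨0, by rw [eq_neg_of_add_eq_zero_left e2]; simp⟩
  choose r hr using hroot
  refine ⟨∑ ξ : b, ∑ ξ' : b, r ξ ξ' * ((N ξ : ℤ) * (N ξ' : ℤ) * redInt 2 b ξ.1 ξ'.1), ?_⟩
  have hformula : (2 : ℂ) ^ blockDefect 2 b * BlockB.contrib 2 b y χ χ =
      ∑ ξ : b, ∑ ξ' : b, L ξ * conj (L ξ') *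
        (((N ξ : ℤ) * (N ξ' : ℤ) * redInt 2 b ξ.1 ξ'.1 : ℤ) : ℂ) := by
    rw [contrib_eq_sum hM hb, mul_sum]
    refine sum_congr rfl fun ξ _ => ?_
    rw [mul_sum]
    refine sum_congr rfl fun ξ' _ => ?_
    rw [hLN, hLN, map_mul, map_natCast]
    push_cast
    rw [redInt_eq_regMat hM hb]
    push_cast
    ring
  have hreal : conj ((2 : ℂ) ^ blockDefect 2 b * BlockB.contrib 2 b y χ χ) =
      (2 : ℂ) ^ blockDefect 2 b * BlockB.contrib 2 b y χ χ := by
    rw [map_mul, map_pow, map_ofNat, conj_contrib]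
  rw [← Complex.conj_eq_iff_re.1 hreal, hformula, Complex.re_sum]
  push_cast
  refine sum_congr rfl fun ξ _ => ?_
  rw [Complex.re_sum, Complex.ofReal_sum]
  refine sum_congr rfl fun ξ' _ => ?_
  rw [Complex.mul_re, hr]
  simp

end CfsgLib.QuatDefect
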