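import Mathlib

/-!
# Integral vectors with the Gram matrix of a quaternion defect group
-/

set_option autoImplicit false
set_option linter.unusedSimpArgs false

namespace CfsgLib.QuatDefect.Lattice

open Finset
open scoped Classical

variable {ι : Type*} [Fintype ι]

/-- A sum of signs. -/
theorem sum_signs {κ : Type*} (s : Finset κ) (g : κ → ℤ) (hg : ∀ i ∈ s, g i = 1 ∨ g i = -1) :
    2 ∣ (s.card : ℤ) - ∑ i ∈ s, g i ∧ ∑ i ∈ s, g i ≤ s.card := by
  have e : (s.card : ℤ) - ∑ i ∈ s, g i = ∑ i ∈ s, (1 - g i) := by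
    rw [sum_sub_distrib, sum_const, nsmul_one]
  refine ⟨e ▸ dvd_sum fun i hi => by rcases hg i hi with e1 | e1 <;> rw [e1] <;> decide, ?_⟩
  calc ∑ i ∈ s, g i ≤ ∑ i ∈ s, (1 : ℤ) :=
        sum_le_sum fun i hi => by rcases hg i hi with e1 | e1 <;> rw [e1] <;> norm_num
    _ = s.card := by rw [sum_const, nsmul_one]

/-- A vector of norm at most three has unit entries. -/
theorem unit_entries (f : ι → ℤ) {n : ℕ} (hn : ∑ i, f i * f i = n) (hn3 : n ≤ 3) :
    (∀ i, f i ≠ 0 → f i = 1 ∨ f i = -1) ∧ (univ.filter fun i => f i ≠ 0).card = n := by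
  have h1 : ∀ i, f i ≠ 0 → f i = 1 ∨ f i = -1 := fun i hi => by
    have h2 : f i * f i ≤ 3 :=
      (single_le_sum (f := fun i => f i * f i) (fun i _ => mul_self_nonneg _) (mem_univ i)).trans
        (by rw [hn]; exact_mod_cast hn3)
    have h3 : -1 ≤ f i ∧ f i ≤ 1 := by constructor <;> nlinarith
    omega
  refine ⟨h1, ?_⟩
  apply Nat.cast_injective (R := ℤ)
  rw [← hn, ← sum_filter_of_ne (p := fun i => f i ≠ 0) fun i _ hne h0 => hne (by rw [h0, zero_mul]),
    card_eq_sum_ones, Nat.cast_sum, Nat.cast_one]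
  exact sum_congr rfl fun i hi => by rcases h1 i (mem_filter.1 hi).2 with e | e <;> rw [e] <;> rfl

/-- The data of the vectors. -/
structure Data (v : ι → ℕ → ℤ) (X : Finset ι) (h : ℕ) : Prop where
  even : 2 ∣ h
  two_le : 2 ≤ h
  one : ∀ i, v i 1 = 0
  card_X : X.card = 4
  on_X : ∀ i ∈ X, v i h = 1 ∨ v i h = -1
  off_X : ∀ i ∉ X, v i h = 0
  gram : ∀ j ∈ Icc 2 h, ∀ k ∈ Icc 2 h, ∑ i, v i j * v i k =
    (if j = k then 1 else 0) + (if j = h ∧ k = h then 1 else 0) +
      (if j % 2 = k % 2 then (if j % 2 = 0 then 2 else 1) else 0)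

variable {v : ι → ℕ → ℤ} {X : Finset ι} {h : ℕ}

/-- The members outside `X` with a nonzero vector. -/
noncomputable def outside (v : ι → ℕ → ℤ) (X : Finset ι) (h : ℕ) : Finset ι :=
  univ.filter fun i => i ∉ X ∧ ∃ j ∈ Icc 2 h, v i j ≠ 0

namespace Data

variable (V : Data v X h)
include V

theorem half : h % 2 = 0 := by obtain ⟨c, rfl⟩ := V.even; omega

theorem outside_mem {i : ι} :
    i ∈ outside v X h ↔ i ∉ X ∧ ∃ j ∈ Ico 2 h, v i j ≠ 0 := by
  simp only [outside, Finset.mem_filter]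
  refine ⟨fun ⟨_, h1, j, hj, hne⟩ => ⟨h1, j, mem_Ico.2 ⟨(mem_Icc.1 hj).1, ?_⟩, hne⟩,
    fun ⟨h1, j, hj, hne⟩ => ⟨mem_univ _, h1, j, mem_Icc.2 ⟨(mem_Ico.1 hj).1, (mem_Ico.1 hj).2.le⟩,
      hne⟩⟩
  refine lt_of_le_of_ne (mem_Icc.1 hj).2 fun e1 => hne ?_
  rw [e1]; exact V.off_X i h1

/-- An even column has exactly one entry outside `X`. -/
theorem even_col {j : ℕ} (hj : j ∈ Ico 2 h) (hje : j % 2 = 0) :
    (∀ i, v i j ≠ 0 → v i j = 1 ∨ v i j = -1) ∧
      ((univ.filter fun i => v i j ≠ 0).filter fun i => i ∉ X).card = 1 := by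
  obtain ⟨hj1, hj2⟩ := mem_Ico.1 hj
  have hjI : j ∈ Icc 2 h := mem_Icc.2 ⟨hj1, hj2.le⟩
  have hhI : h ∈ Icc 2 h := mem_Icc.2 ⟨V.two_le, le_rfl⟩
  obtain ⟨h1, h2⟩ := unit_entries (fun i => v i j) (n := 3) (by
    rw [V.gram j hjI j hjI, if_pos rfl, if_neg (by omega), if_pos rfl, if_pos hje]; norm_num) le_rfl
  refine ⟨h1, ?_⟩
  set s := (univ.filter fun i => v i j ≠ 0).filter fun i => i ∈ X with hs
  have h3 : ∑ i ∈ s, v i j * v i h = 2 := by
    have h4 := V.gram j hjI h hhI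
    rw [if_neg (by omega), if_neg (by omega), if_pos (by rw [hje, V.half]), if_pos hje] at h4
    rw [hs, filter_filter, sum_filter_of_ne]
    · simpa using h4
    · intro i _ hne
      refine ⟨fun e1 => hne (by rw [e1, zero_mul]), ?_⟩
      by_contra hX
      exact hne (by rw [V.off_X i hX, mul_zero])
  have hle : s.card ≤ 3 := h2 ▸ card_le_card (filter_subset _ _)
  obtain ⟨h5, h6⟩ := sum_signs s (fun i => v i j * v i h) fun i hi => by
    obtain ⟨hi1, hi2⟩ := mem_filter.1 hi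
    rcases h1 i (mem_filter.1 hi1).2 with e | e <;> rcases V.on_X i hi2 with e' | e' <;>
      simp [e, e']
  rw [h3] at h5 h6
  have h7 := card_filter_add_card_filter_not (s := univ.filter fun i => v i j ≠ 0) (fun i => i ∈ X)
  rw [← hs, h2] at h7
  omega

/-- An odd column has two entries. -/
theorem odd_col {j : ℕ} (hj : j ∈ Ico 2 h) (hjo : j % 2 = 1) :
    (∀ i, v i j ≠ 0 → v i j = 1 ∨ v i j = -1) ∧ (univ.filter fun i => v i j ≠ 0).card = 2 := by
  obtain ⟨hj1, hj2⟩ := mem_Ico.1 hj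
  have hjI : j ∈ Icc 2 h := mem_Icc.2 ⟨hj1, hj2.le⟩
  exact unit_entries (fun i => v i j) (by
    rw [V.gram j hjI j hjI, if_pos rfl, if_neg (by omega), if_pos rfl, if_neg (by omega)]; norm_num)
    (by norm_num)

/-- Two odd columns share one entry with equal signs. -/
theorem odd_inter {j k : ℕ} (hj : j ∈ Ico 2 h) (hjo : j % 2 = 1) (hk : k ∈ Ico 2 h)
    (hko : k % 2 = 1) (hne : j ≠ k) :
    ((univ.filter fun i => v i j ≠ 0) ∩ univ.filter fun i => v i k ≠ 0).card = 1 ∧
      ∀ i, v i j ≠ 0 → v i k ≠ 0 → v i j = v i k := by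
  obtain ⟨hj1, hj2⟩ := mem_Ico.1 hj
  obtain ⟨hk1, hk2⟩ := mem_Ico.1 hk
  obtain ⟨u1, c1⟩ := V.odd_col hj hjo
  obtain ⟨u2, -⟩ := V.odd_col hk hko
  set s := (univ.filter fun i => v i j ≠ 0) ∩ univ.filter fun i => v i k ≠ 0 with hs
  have h3 : ∑ i ∈ s, v i j * v i k = 1 := by
    have h4 := V.gram j (mem_Icc.2 ⟨hj1, hj2.le⟩) k (mem_Icc.2 ⟨hk1, hk2.le⟩)
    rw [if_neg hne, if_neg (by omega), if_pos (by rw [hjo, hko]), if_neg (by omega)] at h4
    rw [sum_subset (subset_univ s) fun i _ hi => ?_]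
    · simpa using h4
    · simp only [hs, mem_inter, mem_filter, mem_univ, true_and, not_and, not_not] at hi
      by_cases h0 : v i j = 0
      · rw [h0, zero_mul]
      · rw [hi h0, mul_zero]
  have hsig : ∀ i ∈ s, v i j * v i k = 1 ∨ v i j * v i k = -1 := fun i hi => by
    obtain ⟨hi1, hi2⟩ := mem_inter.1 hi
    rcases u1 i (mem_filter.1 hi1).2 with e | e <;> rcases u2 i (mem_filter.1 hi2).2 with e' | e' <;>
      simp [e, e']
  obtain ⟨h5, h6⟩ := sum_signs s _ hsig
  rw [h3] at h5 h6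
  have hle : s.card ≤ 2 := c1 ▸ card_le_card inter_subset_left
  have hcard : s.card = 1 := by omega
  refine ⟨hcard, fun i hi hi' => ?_⟩
  obtain ⟨a, ha⟩ := card_eq_one.1 hcard
  have hia : i ∈ s := mem_inter.2 ⟨mem_filter.2 ⟨mem_univ _, hi⟩, mem_filter.2 ⟨mem_univ _, hi'⟩⟩
  rw [ha, mem_singleton] at hia
  rw [ha, sum_singleton, ← hia] at h3
  rcases u1 i hi with e | e <;> rcases u2 i hi' with e' | e' <;> rw [e, e'] at h3 ⊢ <;>
    norm_num at h3

/-- **The vectors outside `X`.** -/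
theorem main : (outside v X h).card + 1 ≤ h ∧ (4 ≤ h → (outside v X h).Nonempty) ∧
    ((outside v X h).card + 1 = h → ∀ i ∈ outside v X h,
      4 * (h : ℤ) * (∑ j ∈ Ico 1 h, v i j ^ 2) -
        8 * ((∑ j ∈ (Ico 1 h).filter (fun j => j % 2 = 0), v i j) ^ 2 +
          (∑ j ∈ (Ico 1 h).filter (fun j => j % 2 = 1), v i j) ^ 2) = 4 * (h : ℤ) - 8) := by
  have h2 := V.two_le
  by_cases h4 : h < 4
  · have he : outside v X h = ∅ := eq_empty_of_forall_notMem fun i hi => by
      obtain ⟨-, j, hj, -⟩ := V.outside_mem.1 hi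
      have := mem_Ico.1 hj
      have := V.half
      omega
    exact ⟨by rw [he]; simp; omega, fun h5 => absurd h5 (by omega), fun _ i hi => by
      rw [he] at hi; simp at hi⟩
  have hmod := V.half
  set T := (Ico 2 h).filter fun j => j % 2 = 0 with hT
  set U := (Ico 2 h).filter fun j => j % 2 = 1 with hU
  have hTU : T.card = U.card := by
    refine card_bij' (fun j _ => j + 1) (fun j _ => j - 1) (fun j hj => ?_) (fun j hj => ?_)
      (fun j _ => by omega) fun j hj => ?_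
    all_goals simp only [hT, hU, mem_filter, mem_Ico] at hj ⊢; omega
  have hsum : T.card + U.card = h - 2 := by
    rw [← Nat.card_Ico 2 h, ← card_filter_add_card_filter_not (s := Ico 2 h) (fun j => j % 2 = 0)]
    congr 1
    exact congrArg card (filter_congr fun j _ => by omega)
  set supp : ℕ → Finset ι := fun j => univ.filter fun i => v i j ≠ 0 with hsupp
  have hx : ∀ j ∈ T, ∃ x, (supp j).filter (fun i => i ∉ X) = {x} := fun j hj =>
    card_eq_one.1 (V.even_col (mem_filter.1 hj).1 (mem_filter.1 hj).2).2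
  have hne : Nonempty ι := by
    obtain ⟨a, -⟩ := card_pos.1 (show 0 < X.card by rw [V.card_X]; norm_num)
    exact ⟨a⟩
  choose! x hx using hx
  have h3U : 3 ∈ U := mem_filter.2 ⟨mem_Ico.2 (by omega), by norm_num⟩
  have h2T : 2 ∈ T := mem_filter.2 ⟨mem_Ico.2 (by omega), by norm_num⟩
  have hc3 : (supp 3).card = 2 := (V.odd_col (mem_filter.1 h3U).1 (mem_filter.1 h3U).2).2
  have hn : ∀ k ∈ U.erase 3, ∃ n, supp k \ supp 3 = {n} := fun k hk => by
    obtain ⟨hk3, hkU⟩ := mem_erase.1 hk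
    refine card_eq_one.1 ?_
    rw [card_sdiff, (V.odd_col (mem_filter.1 hkU).1 (mem_filter.1 hkU).2).2,
      (V.odd_inter (mem_filter.1 h3U).1 (mem_filter.1 h3U).2 (mem_filter.1 hkU).1
        (mem_filter.1 hkU).2 (Ne.symm hk3)).1]
  choose! n hn using hn
  set A := T.image x
  set N := (U.erase 3).image n
  have hsub : outside v X h ⊆ A ∪ (supp 3 ∪ N) := by
    intro i hi
    obtain ⟨hiX, j, hj, hne⟩ := V.outside_mem.1 hi
    have hij : i ∈ supp j := mem_filter.2 ⟨mem_univ _, hne⟩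
    rcases Nat.mod_two_eq_zero_or_one j with e | e
    · refine mem_union_left _ (mem_image.2 ⟨j, mem_filter.2 ⟨hj, e⟩, ?_⟩)
      exact (mem_singleton.1 ((hx j (mem_filter.2 ⟨hj, e⟩)) ▸ mem_filter.2 ⟨hij, hiX⟩)).symm
    · refine mem_union_right _ ?_
      by_cases h3 : i ∈ supp 3
      · exact mem_union_left _ h3
      · have hk : j ∈ U.erase 3 :=
          mem_erase.2 ⟨fun e1 => h3 (e1 ▸ hij), mem_filter.2 ⟨hj, e⟩⟩
        exact mem_union_right _ (mem_image.2 ⟨j, hk,
          (mem_singleton.1 ((hn j hk) ▸ mem_sdiff.2 ⟨hij, h3⟩)).symm⟩)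
  have hA : A.card ≤ T.card := card_image_le
  have hN : N.card ≤ U.card - 1 := card_image_le.trans (card_erase_of_mem h3U).le
  have hU0 : 0 < U.card := card_pos.2 ⟨3, h3U⟩
  have c0 := card_le_card hsub
  have c1 := card_union_add_card_inter A (supp 3 ∪ N)
  have c2 := card_union_add_card_inter (supp 3) N
  refine ⟨by omega, fun _ => ⟨x 2, V.outside_mem.2 ?_⟩, fun heq i hi => ?_⟩
  · have hm : x 2 ∈ (supp 2).filter fun i => i ∉ X := by rw [hx 2 h2T]; exact mem_singleton_self _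
    obtain ⟨h5, h6⟩ := mem_filter.1 hm
    exact ⟨h6, 2, (mem_filter.1 h2T).1, (mem_filter.1 h5).2⟩
  have hE : outside v X h = A ∪ (supp 3 ∪ N) := eq_of_subset_of_card_le hsub (by omega)
  have hxinj : Set.InjOn x T := card_image_iff.1 (show (T.image x).card = T.card by
    change A.card = T.card; omega)
  have hninj : Set.InjOn n (U.erase 3) := card_image_iff.1 (show ((U.erase 3).image n).card = (U.erase 3).card by
    rw [card_erase_of_mem h3U]; change N.card = U.card - 1; omega)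
  have hAU : Disjoint A (supp 3 ∪ N) := disjoint_iff_inter_eq_empty.2 (card_eq_zero.1 (by omega))
  have h3N : Disjoint (supp 3) N := disjoint_iff_inter_eq_empty.2 (card_eq_zero.1 (by omega))
  obtain ⟨hiX, -⟩ := V.outside_mem.1 hi
  have hevenA : ∀ j ∈ T, v i j ≠ 0 → i = x j := fun j hj hne =>
    mem_singleton.1 ((hx j hj) ▸ mem_filter.2 ⟨mem_filter.2 ⟨mem_univ _, hne⟩, hiX⟩)
  have hoddU : ∀ j ∈ U, v i j ≠ 0 → i ∈ supp 3 ∪ N := fun j hj hne => by
    by_cases h3 : i ∈ supp 3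
    · exact mem_union_left _ h3
    · have hk : j ∈ U.erase 3 :=
        mem_erase.2 ⟨fun e1 => h3 (e1 ▸ mem_filter.2 ⟨mem_univ _, hne⟩), hj⟩
      exact mem_union_right _ (mem_image.2 ⟨j, hk,
        (mem_singleton.1 ((hn j hk) ▸ mem_sdiff.2 ⟨mem_filter.2 ⟨mem_univ _, hne⟩, h3⟩)).symm⟩)
  have hT' : ∀ j, j ∈ (Ico 1 h).filter (fun j => j % 2 = 0) ↔ j ∈ T := fun j => by
    simp only [hT, mem_filter, mem_Ico]; omega
  have hsplit : ∑ j ∈ Ico 1 h, v i j ^ 2 = ∑ j ∈ T, v i j ^ 2 + ∑ j ∈ U, v i j ^ 2 := by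
    rw [← sum_Ico_consecutive _ (show 1 ≤ 2 by norm_num) (show 2 ≤ h by omega), Nat.Ico_succ_singleton,
      sum_singleton, V.one, zero_pow two_ne_zero, zero_add,
      ← sum_filter_add_sum_filter_not (Ico 2 h) (fun j => j % 2 = 0)]
    congr 1
    exact sum_congr (filter_congr fun j _ => by omega) fun _ _ => rfl
  have hodd : ∑ j ∈ (Ico 1 h).filter (fun j => j % 2 = 1), v i j = ∑ j ∈ U, v i j := by
    refine (sum_subset (fun j hj => ?_) fun j hj hn' => ?_).symm
    · simp only [hU, mem_filter, mem_Ico] at hj ⊢; omega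
    · simp only [hU, mem_filter, mem_Ico] at hj hn'
      rw [show j = 1 by omega, V.one]
  rw [hsplit, hodd, sum_congr (Finset.ext hT') fun j _ => rfl]
  rw [hE] at hi
  rcases mem_union.1 hi with hiA | hiU
  · -- one even column
    have hno : ∀ j ∈ U, v i j = 0 := fun j hj => by
      by_contra hne
      exact disjoint_left.1 hAU hiA (hoddU j hj hne)
    obtain ⟨j₀, hj₀, hxj⟩ := mem_image.1 hiA
    have hsingle : ∀ j ∈ T, j ≠ j₀ → v i j = 0 := fun j hj hne => by
      by_contra h0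
      exact hne (hxinj hj hj₀ ((hevenA j hj h0).symm.trans hxj.symm))
    have hm : i ∈ supp j₀ := (mem_filter.1 (show i ∈ (supp j₀).filter (fun i => i ∉ X) by
      rw [hx j₀ hj₀, hxj]; exact mem_singleton_self _)).1
    have hu := (V.even_col (mem_filter.1 hj₀).1 (mem_filter.1 hj₀).2).1 i (mem_filter.1 hm).2
    rw [sum_eq_single_of_mem j₀ hj₀ fun j hj hne => by rw [hsingle j hj hne]; rfl,
      sum_eq_single_of_mem j₀ hj₀ hsingle,
      sum_eq_zero fun j hj => by rw [hno j hj]; rfl, sum_eq_zero hno]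
    rcases hu with e | e <;> rw [e] <;> ring
  · -- odd columns
    have hnoe : ∀ j ∈ T, v i j = 0 := fun j hj => by
      by_contra hne
      exact disjoint_left.1 hAU (mem_image.2 ⟨j, hj, (hevenA j hj hne).symm⟩) hiU
    set S := U.filter fun j => v i j ≠ 0 with hS
    have hs1 : ∀ j ∈ S, ∀ k ∈ S, v i j = v i k := fun j hj k hk => by
      by_cases e : j = k
      · rw [e]
      · obtain ⟨a1, a2⟩ := mem_filter.1 hj
        obtain ⟨b1, b2⟩ := mem_filter.1 hk
        exact (V.odd_inter (mem_filter.1 a1).1 (mem_filter.1 a1).2 (mem_filter.1 b1).1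
          (mem_filter.1 b1).2 e).2 i a2 b2
    have hSne : S.Nonempty := by
      rcases mem_union.1 hiU with h5 | h5
      · exact ⟨3, mem_filter.2 ⟨h3U, (mem_filter.1 h5).2⟩⟩
      · obtain ⟨k, hk, rfl⟩ := mem_image.1 h5
        refine ⟨k, mem_filter.2 ⟨(mem_erase.1 hk).2, ?_⟩⟩
        have hm : n k ∈ supp k \ supp 3 := by rw [hn k hk]; exact mem_singleton_self _
        exact (mem_filter.1 (mem_sdiff.1 hm).1).2
    have hScard : S.card = 1 ∨ S = U := by
      rcases mem_union.1 hiU with h5 | h5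
      · by_cases hall : ∃ k ∈ U.erase 3, v i k ≠ 0
        · right
          obtain ⟨k, hk, hki⟩ := hall
          obtain ⟨hk3, hkU⟩ := mem_erase.1 hk
          refine filter_eq_self.2 fun l hl => ?_
          by_cases hl3 : l = 3
          · exact hl3 ▸ (mem_filter.1 h5).2
          by_cases hlk : l = k
          · exact hlk ▸ hki
          have hle : l ∈ U.erase 3 := mem_erase.2 ⟨hl3, hl⟩
          obtain ⟨a, ha⟩ := card_eq_one.1 (V.odd_inter (mem_filter.1 hl).1 (mem_filter.1 hl).2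
            (mem_filter.1 hkU).1 (mem_filter.1 hkU).2 hlk).1
          have hal : a ∈ supp l ∧ a ∈ supp k := mem_inter.1 (ha ▸ mem_singleton_self a)
          -- the common entry is `i` as the new entries are distinct
          by_cases ha3 : a ∈ supp 3
          · obtain ⟨b, hb⟩ := card_eq_one.1 (V.odd_inter (mem_filter.1 h3U).1 (mem_filter.1 h3U).2
              (mem_filter.1 hkU).1 (mem_filter.1 hkU).2 (Ne.symm hk3)).1
            have e1 : a = b := mem_singleton.1 (hb ▸ mem_inter.2 ⟨ha3, hal.2⟩)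
            have e2 : i = b := mem_singleton.1
              (hb ▸ mem_inter.2 ⟨h5, mem_filter.2 ⟨mem_univ _, hki⟩⟩)
            rw [e2, ← e1]; exact (mem_filter.1 hal.1).2
          · exfalso
            refine hlk (hninj hle hk ?_)
            have e3 : a = n l := mem_singleton.1 ((hn l hle) ▸ mem_sdiff.2 ⟨hal.1, ha3⟩)
            have e4 : a = n k := mem_singleton.1 ((hn k hk) ▸ mem_sdiff.2 ⟨hal.2, ha3⟩)
            exact e3.symm.trans e4
        · left
          refine card_eq_one.2 ⟨3, eq_singleton_iff_unique_mem.2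
            ⟨mem_filter.2 ⟨h3U, (mem_filter.1 h5).2⟩, fun l hl => ?_⟩⟩
          by_contra hl3
          exact hall ⟨l, mem_erase.2 ⟨hl3, (mem_filter.1 hl).1⟩, (mem_filter.1 hl).2⟩
      · left
        obtain ⟨k, hk, rfl⟩ := mem_image.1 h5
        refine card_eq_one.2 ⟨k, eq_singleton_iff_nonempty_unique_mem.2 ⟨hSne, fun l hl => ?_⟩⟩
        obtain ⟨hlU, hlv⟩ := mem_filter.1 hl
        have hn3 : n k ∉ supp 3 := fun e1 => disjoint_left.1 h3N e1 h5
        have hle : l ∈ U.erase 3 :=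
          mem_erase.2 ⟨fun e1 => hn3 (e1 ▸ mem_filter.2 ⟨mem_univ _, hlv⟩), hlU⟩
        exact hninj hle hk (mem_singleton.1
          ((hn l hle) ▸ mem_sdiff.2 ⟨mem_filter.2 ⟨mem_univ _, hlv⟩, hn3⟩)).symm
    obtain ⟨j₀, hj₀⟩ := hSne
    set s := v i j₀
    have hs : s = 1 ∨ s = -1 :=
      (V.odd_col (mem_filter.1 (mem_filter.1 hj₀).1).1 (mem_filter.1 (mem_filter.1 hj₀).1).2).1 i
        (mem_filter.1 hj₀).2
    have q1 : ∑ j ∈ U, v i j = (S.card : ℤ) * s := by
      rw [← sum_filter_ne_zero, ← hS, sum_congr rfl fun j hj => hs1 j hj j₀ hj₀, sum_const,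
        nsmul_eq_mul]
    have q2 : ∑ j ∈ U, v i j ^ 2 = (S.card : ℤ) := by
      rw [← sum_filter_of_ne (p := fun j => v i j ≠ 0) fun j _ hne h0 => hne (by rw [h0]; rfl), ← hS,
        sum_congr rfl fun j hj => by rw [hs1 j hj j₀ hj₀], sum_const, nsmul_eq_mul]
      rcases hs with e | e <;> rw [show v i j₀ = _ from e] <;> ring
    rw [sum_eq_zero fun j hj => by rw [hnoe j hj]; rfl, sum_eq_zero hnoe, q1, q2]
    have hhU : (h : ℤ) = 2 * (U.card : ℤ) + 2 := by omega
    rcases hScard with e1 | e1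
    · rw [e1]; rcases hs with e | e <;> rw [e] <;> ring
    · rw [e1, hhU]; rcases hs with e | e <;> rw [e] <;> ring

end Data

end CfsgLib.QuatDefect.Lattice
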