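import Cfsg.Agent.BlocksB.QuatDefect.Expand
import Cfsg.Agent.Char.Induction

/-!
# A block with quaternion defect group: a stable faithful character of degree two

The character of the defect group induced from a faithful linear character of the rotations is
constant along the fusion, so its weighted section function has integral multiplicities.
-/

set_option autoImplicit false
set_option linter.style.haveILetI false
set_option linter.unusedSectionVars false

namespace CfsgLib.QuatDefect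

open Cfsg Finset CfsgLib.Block CfsgLib.Block.Chr CfsgLib.BrauerPairs CfsgLib.BlockStar
  CfsgLib.BlockB CfsgLib.Char
open CfsgLib.DihDefect (om om_spec)
open scoped ComplexConjugate
open scoped Classical

universe u

variable {M : Ideal AlgInt} [M.IsPrime] [Fact (Nat.Prime 2)] [CharP (Residue M) 2]
  {G : Type u} [Group G] [Fintype G]

local notation "𝕜" => Residue M
local notation "Z[" x "]" => Subgroup.zpowers x
local notation "C[" Q "]" => Subgroup.centralizer (SetLike.coe Q)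

variable {B : Set (IrrCharacter G)} {D : Subgroup G} {e : MonoidAlgebra (Residue M) G}
  {σ τ : G} {h : ℕ}

/-- The sum of a linear character and its inverse on the rotations, zero elsewhere. -/
noncomputable def twoDim (μ : Subgroup.zpowers σ →* ℂˣ) (g : G) : ℂ :=
  if hg : g ∈ Subgroup.zpowers σ then (μ ⟨g, hg⟩ : ℂ) + ((μ ⟨g, hg⟩)⁻¹ : ℂˣ) else 0

theorem twoDim_pow (μ : Subgroup.zpowers σ →* ℂˣ) {c : ℂ}
    (hμ : ∀ l : ℕ, ((μ ⟨σ ^ l, Subgroup.npow_mem_zpowers σ l⟩ : ℂˣ) : ℂ) = c ^ l) (i : ℕ) :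
    twoDim μ (σ ^ i) = c ^ i + (c ^ i)⁻¹ := by
  rw [twoDim, dif_pos (Subgroup.npow_mem_zpowers σ i), Units.val_inv_eq_inv_val, hμ]

theorem twoDim_inv (μ : Subgroup.zpowers σ →* ℂˣ) {a : G} (ha : a ∈ Subgroup.zpowers σ) :
    twoDim μ a⁻¹ = twoDim μ a := by
  rw [twoDim, twoDim, dif_pos ha, dif_pos (inv_mem ha),
    show (⟨a⁻¹, inv_mem ha⟩ : Subgroup.zpowers σ) = (⟨a, ha⟩ : Subgroup.zpowers σ)⁻¹ from rfl,
    map_inv, inv_inv, add_comm]

namespace QuatData

variable (S : QuatData (M := M) B D e σ τ h)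
include S

/-- A rotation of order at least four is carried to one below the middle. -/
theorem exists_index {a : G} (ha : a ∈ Z[σ]) (ha2 : a * a ≠ 1) :
    ∃ i ∈ Ico 1 h, (a = σ ^ i ∨ a = (σ ^ i)⁻¹) ∧ Fus D e (σ ^ i) a := by
  obtain ⟨j, hj⟩ := mem_powers_iff_mem_zpowers.2 ha
  have hj' : σ ^ (j % (2 * h)) = a := by rw [← S.ordσ, pow_mod_orderOf]; exact hj
  set l := j % (2 * h)
  have hl : l < 2 * h := Nat.mod_lt _ (by have := S.h_pos; omega)
  have hl0 : l ≠ 0 := fun e1 => ha2 (by rw [← hj', e1, pow_zero, one_mul])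
  have hlh : l ≠ h := fun e1 => ha2 (by rw [← hj', e1, S.z_sq])
  rcases lt_or_ge l h with h1 | h1
  · exact ⟨l, mem_Ico.2 ⟨by omega, h1⟩, Or.inl hj'.symm, hj' ▸ Fus.refl _⟩
  · have he : (σ ^ (2 * h - l))⁻¹ = a := by
      rw [← hj']
      exact inv_eq_of_mul_eq_one_right (by
        rw [← pow_add, Nat.sub_add_cancel hl.le, S.pow_eq_one])
    refine ⟨2 * h - l, mem_Ico.2 ⟨by omega, by omega⟩, Or.inr he.symm, ?_⟩
    have h2 := fus_conj S.pair (S.pow_mem_D (2 * h - l)) S.τ_mem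
    rwa [S.τ_rot', he] at h2

theorem om_half : om h ^ (h / 2) * om h ^ (h / 2) = -1 := by
  have hh := S.h_pos
  have hω := om_spec hh
  rw [← pow_add, ← two_mul, ← S.h_two]
  exact (mul_self_eq_one_iff.1 (by rw [← pow_add, ← two_mul, hω.pow_eq_one])).resolve_left
    (fun e1 => by have := Nat.le_of_dvd hh ((hω.pow_eq_one_iff_dvd h).1 e1); omega)

variable {μ : Subgroup.zpowers σ →* ℂˣ}
  (hμ : ∀ l : ℕ, ((μ ⟨σ ^ l, Subgroup.npow_mem_zpowers σ l⟩ : ℂˣ) : ℂ) = om h ^ l)
include hμ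

theorem twoDim_z : twoDim μ (σ ^ h) = -2 := by
  have h1 : om h ^ h = -1 := by
    rw [S.h_two, two_mul, pow_add]; exact (by simpa [← two_mul, ← S.h_two] using S.om_half)
  rw [twoDim_pow μ hμ, h1]
  norm_num

theorem twoDim_four {a : G} (ha : a ∈ D) (h2 : a * a = σ ^ h) : twoDim μ a = 0 := by
  by_cases hn : a ∈ Z[σ]
  · have h0 : twoDim μ (σ ^ (h / 2)) = 0 := by
      rw [twoDim_pow μ hμ]
      have h1 := S.om_half
      have hne : om h ^ (h / 2) ≠ 0 := fun e1 => by rw [e1] at h1; norm_num at h1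
      field_simp
      linear_combination h1
    rcases S.eq_w hn h2 with rfl | rfl
    · exact h0
    · rw [twoDim_inv μ (Subgroup.npow_mem_zpowers σ _)]; exact h0
  · rw [twoDim, dif_neg hn]

/-- **The character is constant along the fusion.** -/
theorem twoDim_stable : Stable 2 D e (twoDim μ) := by
  intro u hu g hg
  obtain ⟨hv, hfus⟩ := fus_of_carries S.pair hu hg
  set v := g * u * g⁻¹ with hvdef
  have hvv : v * v = g * (u * u) * g⁻¹ := by rw [hvdef]; group
  have hinσ : ∀ a ∈ D, a * a ≠ σ ^ h → a ∈ Z[σ] := fun a ha hne =>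
    by_contra fun hn => hne (S.refl_sq ha hn)
  by_cases h1 : u * u = 1
  · have hv1 : v * v = 1 := by rw [hvv, h1, mul_one, mul_inv_cancel]
    rcases S.eq_z (hinσ u hu (h1 ▸ S.z_ne_one.symm)) h1 with e1 | e1
    · rw [hvdef, e1, mul_one, mul_inv_cancel]
    · rcases S.eq_z (hinσ v hv (hv1 ▸ S.z_ne_one.symm)) hv1 with e2 | e2
      · exact absurd (conj_eq_one_iff.1 e2) (e1 ▸ S.z_ne_one)
      · rw [e1, e2]
  by_cases h2 : u * u = σ ^ h
  · rw [S.twoDim_four hμ hv (S.sq_of_four hv (hfus.orderOf_eq ▸ S.orderOf_four h2)),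
      S.twoDim_four hμ hu h2]
  have hv1 : v * v ≠ 1 := fun e1 => h1 (conj_eq_one_iff.1 (hvv ▸ e1))
  have hv2 : v * v ≠ σ ^ h := fun e1 =>
    h2 (S.sq_of_four hu (hfus.orderOf_eq.trans (S.orderOf_four e1)))
  obtain ⟨i, hi, hui, hfi⟩ := S.exists_index (hinσ u hu h2) h1
  obtain ⟨j, hj, hvj, hfj⟩ := S.exists_index (hinσ v hv hv2) hv1
  have hij := S.rot_not_fus hi hj ((hfi.trans hfus).trans hfj.symm)
  subst hij
  have hrot : ∀ a, (a = σ ^ i ∨ a = (σ ^ i)⁻¹) → twoDim μ a = twoDim μ (σ ^ i) := by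
    rintro a (rfl | rfl)
    · rfl
    · exact twoDim_inv μ (Subgroup.npow_mem_zpowers σ i)
  rw [hrot v hvj, hrot u hui]

omit hμ in
/-- It is a generalized character of the defect group. -/
theorem twoDim_gen : IsGeneralizedCharacter D fun u : D => twoDim μ u := by
  haveI : Fintype D := Fintype.ofFinite D
  set H : Subgroup D := Z[σ].subgroupOf D with hH
  haveI : Fintype H := Fintype.ofFinite H
  haveI : H.Normal := ⟨fun a ha g => by
    rw [hH, Subgroup.mem_subgroupOf] at ha ⊢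
    rcases S.conj_rot g.2 ha with e1 | e1
    · simpa [e1] using ha
    · simpa [e1] using inv_mem ha⟩
  haveI : Fintype Z[σ] := Fintype.ofFinite _
  let κ : H →* Z[σ] := MonoidHom.mk' (fun a => ⟨(a : D), Subgroup.mem_subgroupOf.1 a.2⟩)
    fun _ _ => rfl
  have hg := IsGeneralized.indFun
    (IsGeneralized.comp (IsIrrCharacter.isGeneralized (linearCharEquiv μ).1.2) κ)
  convert hg using 1
  funext u
  by_cases hu : (u : G) ∈ Z[σ]
  · have hcard : Nat.card H = 2 * h := by
      rw [hH, Nat.card_congr (Subgroup.subgroupOfEquivOfLe (Subgroup.zpowers_le.2 S.σ_mem)).toEquiv,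
        Nat.card_zpowers, S.ordσ]
    have hc1 : (univ.filter fun x : D => (x : G) ∈ Z[σ]).card = 2 * h := by
      rw [← hcard, Nat.card_eq_fintype_card, Fintype.card_subtype]
      congr 1
    have hc2 : (univ.filter fun x : D => ¬ (x : G) ∈ Z[σ]).card = 2 * h := by
      have h1 := card_filter_add_card_filter_not (s := (univ : Finset D))
        (fun x : D => (x : G) ∈ Z[σ])
      rw [hc1, card_univ, ← Nat.card_eq_fintype_card, S.card] at h1
      omega
    have hu' : u ∈ H := Subgroup.mem_subgroupOf.2 hu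
    have e0 := indFun_apply_normal (fun a : H => ((linearCharEquiv μ).1 : Z[σ] → ℂ) (κ a))
      (⟨u, hu'⟩ : H)
    refine Eq.trans ?_ e0.symm
    have e1 : ∀ x ∈ univ.filter (fun x : D => (x : G) ∈ Z[σ]),
        ((linearCharEquiv μ).1 : Z[σ] → ℂ) (κ ⟨x * u * x⁻¹, (‹H.Normal›).conj_mem u hu' x⟩) =
          (μ ⟨(u : G), hu⟩ : ℂ) := fun x hx => by
      show (μ (κ _) : ℂ) = _
      congr 2
      refine Subtype.ext ?_
      exact mul_inv_eq_iff_eq_mul.2 (S.rot_comm (mem_filter.1 hx).2 hu)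
    have e2 : ∀ x ∈ univ.filter (fun x : D => ¬ (x : G) ∈ Z[σ]),
        ((linearCharEquiv μ).1 : Z[σ] → ℂ) (κ ⟨x * u * x⁻¹, (‹H.Normal›).conj_mem u hu' x⟩) =
          (((μ ⟨(u : G), hu⟩)⁻¹ : ℂˣ) : ℂ) := fun x hx => by
      show (μ (κ _) : ℂ) = _
      rw [← map_inv]
      congr 2
      refine Subtype.ext ?_
      exact S.refl_inv_rot x.2 (mem_filter.1 hx).2 hu
    rw [twoDim, dif_pos hu, hcard,
      ← sum_filter_add_sum_filter_not univ (fun x : D => (x : G) ∈ Z[σ]),
      sum_congr rfl e1, sum_congr rfl e2, sum_const, sum_const, hc1, hc2, nsmul_eq_mul,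
      nsmul_eq_mul, ← mul_add,
      inv_mul_cancel_left₀ (Nat.cast_ne_zero.2 (show 2 * h ≠ 0 by have := S.h_pos; omega))]
  · rw [twoDim, dif_neg hu, indFun_eq_zero_of_normal _ (fun hm => hu (Subgroup.mem_subgroupOf.1 hm))]

end QuatData

namespace QuatData

variable (S : QuatData (M := M) B D e σ τ h) [Fintype B]
include S

/-- **An integral combination for the members killed by the rotations.** -/
theorem exists_int_comb {χ : B} (hrot : ∀ i ∈ Ico 1 h, ∀ ψ : B, ctr D e (σ ^ i) χ.1 ψ.1 = 0)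
    (hoth : ∀ v ∈ S.oth, ∀ ψ : B, ctr D e v χ.1 ψ.1 = 0) (ψ : B) :
    ∃ z : ℤ, 2 * regMat 2 B χ ψ - 2 * ctr D e (σ ^ h) χ.1 ψ.1 = (z : ℂ) := by
  have hω := om_spec S.h_pos
  obtain ⟨μ, hμ⟩ := CfsgLib.DihPrincipal.exists_chr (σ := σ) (ζ := om h)
    (by rw [S.ordσ]; exact hω) 1
  simp only [one_mul] at hμ
  have hb := isBlk_idem S.hM S.hB
  have hst := S.twoDim_stable hμ
  obtain ⟨z, hz⟩ := IsGeneralized.exists_classInner_eq_int
    (isGeneralized_starFun_weight S.hM hb S.hmax hst S.twoDim_gen χ.1)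
    (IsIrrCharacter.isGeneralized ψ.1.2)
  refine ⟨z, ?_⟩
  have hone : ∀ f, IsPairOf 2 (idem M B) (Z[(1 : G)], f) → weight 2 D e (twoDim μ) 1 f = 2 := by
    intro f hp
    obtain ⟨a, ha⟩ := exists_conj_ple_max hb S.hmax hp
    rw [weight_eq hst ha, mul_one, mul_inv_cancel, ← pow_zero σ, twoDim_pow μ hμ]
    norm_num
  rw [← hz, S.expansion (weight 2 D e (twoDim μ)) (fun g u f => weight_conj hst g u f) 2 hone χ ψ,
    S.sum_reps, sum_eq_zero fun i hi => by rw [hrot i hi ψ, mul_zero],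
    sum_eq_zero fun v hv => by rw [hoth v hv ψ, mul_zero],
    weight_of_ple hst (subBlk_ple S.pair (S.pow_mem_D h)), S.twoDim_z hμ]
  ring

end QuatData

end CfsgLib.QuatDefect
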