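import Cfsg.Agent.BlocksB.QuatDefect.Central

/-!
# A block with quaternion defect group: the block at the central involution of the defect group

Passing to the centralizer of the involution keeps the fusion of the elements of order four, so
the count for a central involution transfers to the block there.
-/

set_option autoImplicit false
set_option linter.style.haveILetI false
set_option linter.unusedSectionVars false

namespace CfsgLib.QuatDefect

open Cfsg Finset CfsgLib.Block CfsgLib.Block.Chr CfsgLib.BrauerPairs CfsgLib.BlockStar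
  CfsgLib.BlockB
open scoped Classical

universe u

variable {M : Ideal AlgInt} [M.IsPrime] [Fact (Nat.Prime 2)] [CharP (Residue M) 2]
  {G : Type u} [Group G] [Fintype G]

local notation "𝕜" => Residue M
local notation "Z[" x "]" => Subgroup.zpowers x
local notation "C[" Q "]" => Subgroup.centralizer (SetLike.coe Q)

variable {B : Set (IrrCharacter G)} {D : Subgroup G} {e : MonoidAlgebra (Residue M) G}
  {σ τ : G} {h : ℕ}

/-- The block below the maximal pair inside a subgroup containing the centralizer. -/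
theorem emb_subBlk {L : Subgroup G} [Fintype L] (hP : IsPair 2 (D, e)) (hDL : D ≤ L)
    {e' : MonoidAlgebra 𝕜 L} (hP' : IsPair 2 (D.subgroupOf L, e')) (hemb : emb L e' = e)
    {u : L} (hu : (u : G) ∈ D) (hC : (C[Z[(u : G)]] : Subgroup G) ≤ L) :
    emb L (subBlk 2 (D.subgroupOf L) e' u) = subBlk 2 D e (u : G) := by
  have hmapZ : Z[u].map L.subtype = Z[(u : G)] := MonoidHom.map_zpowers _ _
  have h1 := ple_embPair L (x := (Z[u], subBlk 2 (D.subgroupOf L) e' u))
    (by rw [hmapZ]; exact hC) (subBlk_ple hP' (Subgroup.mem_subgroupOf.2 hu))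
  rw [show embPair L (D.subgroupOf L, e') = (D, e) from
      Prod.ext (Subgroup.map_subgroupOf_eq_of_le hDL) hemb,
    show embPair L (Z[u], subBlk 2 (D.subgroupOf L) e' u) =
      (Z[(u : G)], emb L (subBlk 2 (D.subgroupOf L) e' u)) from Prod.ext hmapZ rfl] at h1
  exact ple_unique hP h1 (subBlk_ple hP hu)

namespace QuatData

variable (S : QuatData (M := M) B D e σ τ h)
include S

set_option maxHeartbeats 400000 in
/-- **The rank at the involution and the further classes of order four add up to three.** -/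
theorem rank_z_add_oth [Fintype C[Z[σ ^ h]]] {f : Set (IrrCharacter C[Z[σ ^ h]])}
    (hf : IsPBlock M f) (hfe : idemIn M C[Z[σ ^ h]] f = subBlk 2 D e (σ ^ h)) :
    blockRank 2 f + S.oth.card = 3 := by
  have hDL := S.le_centralizer
  obtain ⟨hbd, e', hemb, hmax'⟩ :=
    DihDefect.exists_local_maxPair S.hM S.hB S.hmax (S.pow_mem_D h) hDL hf hfe
  set σ' : C[Z[σ ^ h]] := ⟨σ, hDL S.σ_mem⟩ with hσ'
  set τ' : C[Z[σ ^ h]] := ⟨τ, hDL S.τ_mem⟩ with hτ'
  have S' : QuatData (M := M) f (D.subgroupOf C[Z[σ ^ h]]) e' σ' τ' h :=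
    { hM := S.hM
      hB := hf
      hmax := hmax'
      hh := S.hh
      ordσ := by rw [← Subgroup.orderOf_coe]; exact S.ordσ
      sq := Subtype.ext (by simpa [σ', τ'] using S.sq)
      rel := Subtype.ext (by simpa [σ', τ'] using S.rel)
      σ_mem := Subgroup.mem_subgroupOf.2 S.σ_mem
      τ_mem := Subgroup.mem_subgroupOf.2 S.τ_mem
      cases := fun g hg => by
        obtain ⟨i, h1 | h1⟩ := S.cases g (Subgroup.mem_subgroupOf.1 hg)
        · exact ⟨i, Or.inl (Subtype.ext (by simpa [σ'] using h1))⟩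
        · exact ⟨i, Or.inr (Subtype.ext (by simpa [σ', τ'] using h1))⟩
      card := by
        rw [Nat.card_congr (Subgroup.subgroupOfEquivOfLe hDL).toEquiv]; exact S.card
      τ_not := fun hm => by
        obtain ⟨i, hi⟩ := Subgroup.mem_zpowers_iff.1 hm
        exact S.τ_not (Subgroup.mem_zpowers_iff.2
          ⟨i, by simpa [σ', τ'] using congrArg Subtype.val hi⟩)
      defect := by rw [hbd]; exact S.defect }
  haveI : Fintype f := Fintype.ofFinite f
  have h3 := S'.rank_add_oth fun g => Subtype.ext (by simpa [σ'] using (mem_cz.1 g.2).symm)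
  have key : ∀ u v : C[Z[σ ^ h]], (u : G) ∈ D → (v : G) ∈ D → (u : G) * u = σ ^ h →
      (v : G) * v = σ ^ h →
      (Fus (D.subgroupOf C[Z[σ ^ h]]) e' u v ↔ Fus D e (u : G) (v : G)) := by
    intro u v hu hv hu2 hv2
    have hC : ∀ a : G, a * a = σ ^ h → (C[Z[a]] : Subgroup G) ≤ C[Z[σ ^ h]] := fun a ha =>
      Subgroup.centralizer_le (SetLike.coe_subset_coe.mpr (Subgroup.zpowers_le.2
        (ha ▸ mul_mem (Subgroup.mem_zpowers a) (Subgroup.mem_zpowers a))))
    have eu := emb_subBlk S.pair hDL S'.pair hemb hu (hC _ hu2)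
    have ev := emb_subBlk S.pair hDL S'.pair hemb hv (hC _ hv2)
    constructor
    · rintro ⟨g, hg, hgf⟩
      exact ⟨(g : G), congrArg Subtype.val hg, by rw [← eu, cj_emb]; exact (congrArg (emb _) hgf).trans ev⟩
    · rintro ⟨g, hg, hgf⟩
      have hgL : g ∈ C[Z[σ ^ h]] := by
        refine mem_cz.2 (mul_inv_eq_iff_eq_mul.1 ?_)
        calc g * σ ^ h * g⁻¹ = g * ((u : G) * u) * g⁻¹ := congrArg (fun a => g * a * g⁻¹) hu2.symm
          _ = g * (u : G) * g⁻¹ * (g * (u : G) * g⁻¹) := by group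
          _ = σ ^ h := by rw [hg, hv2]
      refine ⟨⟨g, hgL⟩, Subtype.ext hg, emb_injective _ ?_⟩
      rw [← cj_emb, eu, ev]
      exact hgf
  have hστD : σ * τ ∈ D := D.mul_mem S.σ_mem S.τ_mem
  have hw : ((σ' ^ (h / 2) : C[Z[σ ^ h]]) : G) = σ ^ (h / 2) := rfl
  have hst : ((σ' * τ' : C[Z[σ ^ h]]) : G) = σ * τ := rfl
  have k1 := key τ' (σ' ^ (h / 2)) S.τ_mem (S.pow_mem_D _) S.sq S.w_sq
  have k2 := key (σ' * τ') (σ' ^ (h / 2)) hστD (S.pow_mem_D _) (S.refl_sq hστD S.στ_not) S.w_sq
  have k3 := key (σ' * τ') τ' hστD S.τ_mem (S.refl_sq hστD S.στ_not) S.sq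
  rw [hw] at k1 k2
  rw [hst] at k2 k3
  rw [S'.oth_card] at h3
  simp only [k1, k2, k3] at h3
  rw [S.oth_card]
  exact h3

end QuatData

end CfsgLib.QuatDefect
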