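import Cfsg.Agent.BlocksB.QuatDefect.Coeff
import Cfsg.Agent.BlocksB.QuatDefect.Lattice
import Cfsg.Agent.BlocksB.QuatDefect.Reduce
import Cfsg.Agent.BlocksB.QuatDefect.Multiplicity
import Cfsg.Agent.BlocksB.GapOneElementary

/-!
# The invariants of a block with quaternion defect group
-/

set_option autoImplicit false
set_option linter.style.haveILetI false
set_option linter.unusedSectionVars false

namespace CfsgLib.QuatDefect

open Cfsg Finset CfsgLib.Block CfsgLib.Block.Chr CfsgLib.BrauerPairs CfsgLib.BlockStar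
  CfsgLib.BlockB
open scoped ComplexConjugate
open scoped Classical

universe u

variable {M : Ideal AlgInt} [M.IsPrime] [Fact (Nat.Prime 2)] [CharP (Residue M) 2]
  {G : Type u} [Group G] [Fintype G]

local notation "𝕜" => Residue M
local notation "Z[" x "]" => Subgroup.zpowers x
local notation "C[" Q "]" => Subgroup.centralizer (SetLike.coe Q)

variable {B : Set (IrrCharacter G)} {D : Subgroup G} {e : MonoidAlgebra (Residue M) G}
  {σ τ : G} {h : ℕ}

/-- The height in the block. -/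
noncomputable def hgt (B : Set (IrrCharacter G)) (χ : B) : ℕ :=
  blockHeight 2 B ((χ : IrrCharacter G) : G → ℂ)

/-- The members of height zero. -/
noncomputable def htZero (B : Set (IrrCharacter G)) [Fintype B] : Finset B :=
  univ.filter fun χ => hgt B χ = 0

namespace QuatData

variable (S : QuatData (M := M) B D e σ τ h) [Fintype B]
include S

theorem redInt_cast (χ ψ : B) :
    (redInt 2 B χ.1 ψ.1 : ℂ) = ((4 * h : ℕ) : ℂ) * regMat 2 B χ ψ := by
  rw [redInt_eq_regMat S.hM S.hB, ← S.defect]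
  push_cast
  rfl

theorem four_h_ne : ((4 * h : ℕ) : ℂ) ≠ 0 :=
  Nat.cast_ne_zero.2 (by have := S.h_pos; omega)

/-- The reduced matrix squares to `4 * h` times itself. -/
theorem redInt_mul (χ ψ : B) :
    ∑ φ : B, redInt 2 B χ.1 φ.1 * redInt 2 B φ.1 ψ.1 = (4 * h : ℕ) * redInt 2 B χ.1 ψ.1 := by
  apply Int.cast_injective (α := ℂ)
  have h1 : ∑ φ : B, regMat 2 B χ φ * regMat 2 B φ ψ = regMat 2 B χ ψ := by
    rw [← Matrix.mul_apply, regMat_mul_self S.hM S.hB]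
  simp only [Int.cast_sum, Int.cast_mul, Int.cast_natCast, S.redInt_cast]
  conv_rhs => rw [← h1]
  simp only [mul_sum]
  exact sum_congr rfl fun φ _ => by ring

theorem redInt_odd {χ ψ : B} (hχ : hgt B χ = 0) (hψ : hgt B ψ = 0) :
    ¬ (2 : ℤ) ∣ redInt 2 B χ.1 ψ.1 := fun hd => by
  have h1 := (pow_dvd_redInt S.hM S.hB χ.2 ψ.2).2
  rw [show blockHeight 2 B ((ψ : IrrCharacter G) : G → ℂ) = 0 from hψ, pow_one] at h1
  exact (h1.1 hd) hχ

theorem redInt_ne_of_zero {χ ψ : B} (hψ : hgt B ψ = 0) : redInt 2 B χ.1 ψ.1 ≠ 0 := by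
  rw [redInt_comm]
  exact redInt_ne_zero S.hM S.hB ψ.2 χ.2 hψ

theorem redInt_diag_pos (χ : B) : 0 < redInt 2 B χ.1 χ.1 := by
  obtain ⟨ψ, hψ, h0⟩ := exists_height_zero S.hM S.hB
  have h1 := S.redInt_mul χ χ
  have h2 : 0 < ∑ φ : B, redInt 2 B χ.1 φ.1 * redInt 2 B φ.1 χ.1 :=
    sum_pos' (fun φ _ => by rw [redInt_comm φ.1]; exact mul_self_nonneg _)
      ⟨⟨ψ, hψ⟩, mem_univ _, by
        rw [redInt_comm ψ]; exact mul_self_pos.2 (S.redInt_ne_of_zero (ψ := ⟨ψ, hψ⟩) h0)⟩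
  rw [h1] at h2
  have : (0 : ℤ) < (4 * h : ℕ) := by have := S.h_pos; omega
  exact pos_of_mul_pos_right h2 this.le

variable {th : IrrCharacter G → ℕ → ℝ} (R : RotVals S th)
include R

/-- **Four members of height zero, where the last vector is a sign, and it vanishes elsewhere.** -/
theorem card_htZero : (htZero B).card = 4 ∧
    (∀ χ ∈ htZero B, R.vec χ.1 h = 1 ∨ R.vec χ.1 h = -1) ∧
      ∀ χ ∉ htZero B, R.vec χ.1 h = 0 := by
  have h2 := S.h_two
  have hh := S.h_pos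
  have hI : h ∈ Icc 2 h := mem_Icc.2 ⟨by omega, le_rfl⟩
  have hn := R.gram hI hI
  rw [if_pos rfl, if_pos ⟨rfl, rfl⟩, if_pos rfl, if_pos (by omega)] at hn
  rw [← sum_filter_add_sum_filter_not univ (fun χ : B => hgt B χ = 0)] at hn
  have hodd : ∀ χ ∈ htZero B, 1 ≤ R.vec χ.1 h * R.vec χ.1 h := fun χ hχ => by
    obtain ⟨c, hc⟩ := R.vec_h_odd χ.2 (mem_filter.1 hχ).2
    have : R.vec χ.1 h ≠ 0 := by omega
    have := mul_self_pos.2 this
    omega
  have hsX : ((htZero B).card : ℤ) ≤ ∑ χ ∈ htZero B, R.vec χ.1 h * R.vec χ.1 h := by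
    rw [card_eq_sum_ones, Nat.cast_sum]
    exact sum_le_sum fun χ hχ => by simpa using hodd χ hχ
  have hnn : 0 ≤ ∑ χ ∈ univ.filter (fun χ : B => ¬ hgt B χ = 0), R.vec χ.1 h * R.vec χ.1 h :=
    sum_nonneg fun _ _ => mul_self_nonneg _
  change ∑ χ ∈ htZero B, R.vec χ.1 h * R.vec χ.1 h + _ = _ at hn
  obtain ⟨ψ, hψ, h0⟩ := exists_height_zero S.hM S.hB
  have hne : (⟨ψ, hψ⟩ : B) ∈ htZero B := mem_filter.2 ⟨mem_univ _, h0⟩
  have h4 : (4 : ℤ) ∣ ((htZero B).card : ℤ) := by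
    obtain ⟨k, hk⟩ := S.hh
    have h1 := S.redInt_mul ⟨ψ, hψ⟩ ⟨ψ, hψ⟩
    have hsq : ∀ φ : B, (4 : ℤ) ∣ redInt 2 B ψ φ.1 * redInt 2 B φ.1 ψ -
        (if φ ∈ htZero B then 1 else 0) := fun φ => by
      rw [redInt_comm φ.1]
      split_ifs with hφ
      · obtain ⟨c, hc⟩ : Odd (redInt 2 B ψ φ.1) := by
          rw [← Int.not_even_iff_odd, even_iff_two_dvd]
          exact S.redInt_odd (χ := ⟨ψ, hψ⟩) h0 (mem_filter.1 hφ).2
        exact ⟨c * c + c, by rw [hc]; ring⟩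
      · have hpos : hgt B φ ≠ 0 := fun e1 => hφ (mem_filter.2 ⟨mem_univ _, e1⟩)
        obtain ⟨c, hc⟩ : (2 : ℤ) ∣ redInt 2 B ψ φ.1 :=
          (dvd_pow_self (2 : ℤ) hpos).trans (by
            simpa [hgt] using (pow_dvd_redInt S.hM S.hB hψ φ.2).1)
        exact ⟨c * c, by rw [hc]; ring⟩
    have h3 := dvd_sum (s := (univ : Finset B)) fun φ _ => hsq φ
    rw [sum_sub_distrib, h1, sum_ite_mem, univ_inter, sum_const, nsmul_one] at h3
    refine (dvd_sub_right ?_).1 h3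
    exact Dvd.dvd.mul_right (by push_cast; exact dvd_mul_right 4 _) _
  have hpos : 0 < (htZero B).card := card_pos.2 ⟨_, hne⟩
  have hcard : (htZero B).card = 4 := by omega
  have heq : ∀ χ ∈ htZero B, (1 : ℤ) = R.vec χ.1 h * R.vec χ.1 h :=
    (sum_eq_sum_iff_of_le hodd).1 (by rw [sum_const, nsmul_one, hcard]; omega)
  refine ⟨hcard, fun χ hχ => mul_self_eq_one_iff.1 (heq χ hχ).symm, fun χ hχ => ?_⟩
  have hz : ∑ χ ∈ univ.filter (fun χ : B => ¬ hgt B χ = 0), R.vec χ.1 h * R.vec χ.1 h = 0 := by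
    omega
  exact mul_self_eq_zero.1 ((sum_eq_zero_iff_of_nonneg fun _ _ => mul_self_nonneg _).1 hz χ
    (mem_filter.2 ⟨mem_univ _, fun e1 => hχ (mem_filter.2 ⟨mem_univ _, e1⟩)⟩))

/-- The lattice data. -/
theorem latticeData : Lattice.Data (fun χ : B => R.vec χ.1) (htZero B) h := by
  obtain ⟨h1, h2, h3⟩ := S.card_htZero R
  exact ⟨⟨h / 2, S.h_two⟩, by have := S.h_two; have := S.h_pos; omega, fun χ => R.vec_one χ.1, h1,
    h2, h3, fun j hj k hk => R.gram hj hk⟩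

/-- The further classes of order four only see the members of height zero. -/
theorem oth_row {v : G} (hv : v ∈ S.oth) {χ : B} (hχ : hgt B χ ≠ 0) (ψ : B) :
    ctr D e v χ.1 ψ.1 = 0 := by
  obtain ⟨htr, h4⟩ := S.oth_facts hv
  refine S.ctr_row_zero (S.oth_props hv).1 ?_ ψ
  have h1 := congrArg Complex.re htr
  rw [Complex.one_re, Complex.re_sum,
    ← sum_filter_add_sum_filter_not univ (fun φ : B => hgt B φ = 0)] at h1
  have hX : (1 : ℝ) ≤ ∑ φ ∈ htZero B, (ctr D e v φ.1 φ.1).re := by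
    refine le_trans ?_ (card_nsmul_le_sum _ _ (4 : ℝ)⁻¹ fun φ hφ => h4 φ (mem_filter.1 hφ).2)
    rw [(S.card_htZero R).1]
    norm_num
  have hnn : ∀ φ : B, 0 ≤ (ctr D e v φ.1 φ.1).re := fun φ => contribR_self_nonneg φ.1 v _
  have hz : ∑ φ ∈ univ.filter (fun φ : B => ¬ hgt B φ = 0), (ctr D e v φ.1 φ.1).re = 0 :=
    le_antisymm (by change _ + _ = _ at h1; change _ ≤ _ at hX; unfold htZero at hX; linarith)
      (sum_nonneg fun φ _ => hnn φ)
  have h5 := (sum_eq_zero_iff_of_nonneg fun φ _ => hnn φ).1 hz χ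
    (mem_filter.2 ⟨mem_univ _, hχ⟩)
  apply Complex.ext
  · rw [h5]; rfl
  · rw [ctr, contribR_self, Complex.ofReal_im]; rfl

/-- **The decomposition off the members of height zero.** -/
theorem delta_off {χ : B} (hχ : hgt B χ ≠ 0) (ψ : B) :
    ((4 * h : ℕ) : ℂ) * (if χ = ψ then 1 else 0) =
      (redInt 2 B χ.1 ψ.1 : ℂ) + ((4 * h : ℕ) : ℂ) * ctr D e (σ ^ h) χ.1 ψ.1 +
        2 * ∑ i ∈ Ico 1 h, (th χ.1 i : ℂ) * (th ψ.1 i : ℂ) := by
  rw [S.delta χ ψ, S.sum_reps, sum_eq_zero (s := S.oth) fun v hv => S.oth_row R hv hχ ψ,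
    sum_congr rfl fun i hi => S.ctr_rot R hi χ.1 ψ.1, ← Finset.sum_mul, S.redInt_cast]
  have e1 : ((4 * h : ℕ) : ℂ) * ((2 * h : ℕ) : ℂ)⁻¹ = 2 := by
    rw [show 4 * h = 2 * (2 * h) by ring, Nat.cast_mul, mul_inv_cancel_right₀ (S.two_h_ne R),
      Nat.cast_ofNat]
  linear_combination (∑ i ∈ Ico 1 h, (th χ.1 i : ℂ) * (th ψ.1 i : ℂ)) * e1

/-- The rotations contribute an integer. -/
noncomputable def rotNorm (χ : B) : ℤ :=
  4 * (h : ℤ) * (∑ j ∈ Ico 1 h, R.vec χ.1 j ^ 2) -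
    8 * ((∑ j ∈ (Ico 1 h).filter (fun j => j % 2 = 0), R.vec χ.1 j) ^ 2 +
      (∑ j ∈ (Ico 1 h).filter (fun j => j % 2 = 1), R.vec χ.1 j) ^ 2)

theorem rotNorm_eq {χ : B} (hχ : hgt B χ ≠ 0) :
    2 * ∑ i ∈ Ico 1 h, (th χ.1 i : ℂ) * (th χ.1 i : ℂ) = (S.rotNorm R χ : ℂ) := by
  have h1 := R.twoN χ.1
  rw [(S.card_htZero R).2.2 χ fun hm => hχ (mem_filter.1 hm).2] at h1
  have h2 := congrArg (fun x : ℝ => (x : ℂ)) h1
  simp only [rotNorm, ← pow_two] at h2 ⊢
  push_cast at h2 ⊢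
  linear_combination h2

/-- **The scaled contribution at the involution of a member of positive height.** -/
theorem z_part {χ : B} (hχ : hgt B χ ≠ 0) :
    0 < 4 * (h : ℤ) - redInt 2 B χ.1 χ.1 - S.rotNorm R χ ∧
      (2 : ℤ) ^ (hgt B χ + 1) ∣ 4 * (h : ℤ) - redInt 2 B χ.1 χ.1 - S.rotNorm R χ := by
  set Q := 4 * (h : ℤ) - redInt 2 B χ.1 χ.1 - S.rotNorm R χ
  have hQ : ((4 * h : ℕ) : ℂ) * ctr D e (σ ^ h) χ.1 χ.1 = (Q : ℂ) := by
    have h1 := S.delta_off R hχ χ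
    rw [if_pos rfl, S.rotNorm_eq R hχ] at h1
    simp only [Q]
    push_cast at h1 ⊢
    linear_combination -h1
  obtain ⟨f, hf, hfe, hind⟩ := exists_sub S.hM S.hB S.hmax (S.pow_mem_D h)
  obtain ⟨hbd, -⟩ :=
    DihDefect.exists_local_maxPair S.hM S.hB S.hmax (S.pow_mem_D h) S.le_centralizer hf hfe
  have hscaled : ∀ ψ : B, ((2 : ℕ) : ℂ) ^ blockDefect 2 B * BlockB.contrib 2 f (σ ^ h) χ.1 ψ.1 =
      ((4 * h : ℕ) : ℂ) * ctr D e (σ ^ h) χ.1 ψ.1 := fun ψ => by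
    rw [ctr, ← hfe, contribR_idemIn S.hM _ _ (mem_pSet_of_mem S.pair (S.pow_mem_D h)) hf,
      ← Nat.cast_pow, S.defect]
  have hval := fun ψ : B => scaled_contrib_height S.hM
    (CfsgLib.BlockB.centralizer_zpowers_eq (σ ^ h)) (k := 1) (by rw [S.orderOf_z, pow_one]) hind hbd
    χ.2 ψ.2
  refine ⟨lt_of_le_of_ne ?_ (Ne.symm fun e0 => ?_), ?_⟩
  · have h1 := congrArg Complex.re hQ
    rw [Complex.intCast_re, ← Complex.ofReal_natCast, Complex.re_ofReal_mul] at h1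
    have h2 : (0 : ℝ) ≤ (Q : ℝ) := by
      rw [← h1]; exact mul_nonneg (Nat.cast_nonneg _) (contribR_self_nonneg χ.1 _ _)
    exact_mod_cast h2
  · obtain ⟨ψ, hψ, h0⟩ := exists_height_zero S.hM S.hB
    rw [e0, Int.cast_zero] at hQ
    have h1 := (hval ⟨ψ, hψ⟩).2
    rw [hscaled, S.ctr_row_zero (S.pow_mem_D h) ((mul_eq_zero.1 hQ).resolve_left S.four_h_ne),
      mul_zero, zero_div] at h1
    exact (h1.1 memLocalIdeal_zero) h0
  · have h1 := (hval χ).2.2 hχ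
    rw [hscaled, hQ] at h1
    exact_mod_cast pow_succ_dvd_of_memLocalIdeal S.hM h1

/-- The members outside the height zero with vectors. -/
noncomputable def withVec : Finset B :=
  Lattice.outside (fun χ : B => R.vec χ.1) (htZero B) h

theorem mem_withVec {χ : B} :
    χ ∈ S.withVec R ↔ χ ∉ htZero B ∧ ∃ j ∈ Icc 2 h, R.vec χ.1 j ≠ 0 := by
  simp [withVec, Lattice.outside]

/-- The members without vectors. -/
noncomputable def noVec : Finset B :=
  univ.filter fun χ => χ ∉ htZero B ∧ χ ∉ S.withVec R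

/-- **A member of positive height without vectors.** -/
theorem noVec_spec {k : ℕ} (hk : h = 2 ^ (k + 1)) {χ : B} (hm : χ ∈ S.noVec R) :
    hgt B χ = k + 1 ∧ ∀ ψ : B, ψ ≠ χ → hgt B ψ ≠ 0 → redInt 2 B χ.1 ψ.1 = 0 := by
  obtain ⟨-, hX, hE⟩ := mem_filter.1 hm
  have hχ : hgt B χ ≠ 0 := fun e1 => hX (mem_filter.2 ⟨mem_univ _, e1⟩)
  have hv : ∀ j ∈ Icc 2 h, R.vec χ.1 j = 0 := fun j hj => by_contra fun hne =>
    hE ((S.mem_withVec R).2 ⟨hX, j, hj, hne⟩)
  have hth : ∀ i ∈ Ico 1 h, th χ.1 i = 0 := fun i hi => R.th_eq_zero χ.1 hv hi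
  have hrn : S.rotNorm R χ = 0 := by
    apply Int.cast_injective (α := ℂ)
    rw [← S.rotNorm_eq R hχ, sum_eq_zero fun i hi => by rw [hth i hi]; simp]
    simp
  obtain ⟨hQ, hQd⟩ := S.z_part R hχ
  rw [hrn, sub_zero] at hQ hQd
  set m := hgt B χ
  have hA := S.redInt_diag_pos χ
  have hAd : (2 : ℤ) ^ (m + 1) ∣ redInt 2 B χ.1 χ.1 := by
    exact_mod_cast (pow_dvd_redInt S.hM S.hB χ.2 χ.2).2.2 hχ
  have hdvd : ∀ ψ : B, ψ ≠ χ → (h : ℤ) ∣ redInt 2 B χ.1 ψ.1 := fun ψ hne => by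
    obtain ⟨z, hz⟩ := S.exists_int_comb (χ := χ)
      (fun i hi φ => by rw [S.ctr_rot R hi, hth i hi]; simp)
      (fun v hv φ => S.oth_row R hv hχ φ) ψ
    refine ⟨z, ?_⟩
    apply Int.cast_injective (α := ℂ)
    have h1 := S.delta_off R hχ ψ
    rw [if_neg (Ne.symm hne), sum_eq_zero fun i hi => by rw [hth i hi]; simp] at h1
    push_cast
    rw [← hz]
    have h2 := S.redInt_cast χ ψ
    push_cast at h1 h2
    linear_combination (1 / 2 : ℂ) * h2 - (1 / 2 : ℂ) * h1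
  have hlow : ∀ ψ : B, hgt B ψ = 0 → (h : ℤ) ≤ |redInt 2 B χ.1 ψ.1| := fun ψ hψ => by
    have hne : ψ ≠ χ := fun e1 => hχ (by show hgt B χ = 0; rw [← e1]; exact hψ)
    exact Int.le_of_dvd (abs_pos.2 (S.redInt_ne_of_zero hψ)) ((dvd_abs _ _).2 (hdvd ψ hne))
  obtain ⟨ψ₀, hψ₀, h0⟩ := exists_height_zero S.hM S.hB
  have hge : k + 1 ≤ m := by
    by_contra hlt
    have h1 : (2 : ℤ) ^ (m + 1) ∣ redInt 2 B ψ₀ χ.1 := by
      rw [redInt_comm]
      refine dvd_trans ?_ (hdvd ⟨ψ₀, hψ₀⟩ fun e1 => hχ (by show hgt B χ = 0; rw [← e1]; exact h0))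
      rw [hk]; push_cast
      exact pow_dvd_pow 2 (by omega)
    exact ((pow_dvd_redInt S.hM S.hB hψ₀ χ.2).2.1 (by exact_mod_cast h1)) h0
  have hA2 : (2 : ℤ) ^ (m + 1) ≤ redInt 2 B χ.1 χ.1 := Int.le_of_dvd hA hAd
  have hQ2 : (2 : ℤ) ^ (m + 1) ≤ 4 * (h : ℤ) - redInt 2 B χ.1 χ.1 := Int.le_of_dvd hQ hQd
  have h2h : 2 * (h : ℤ) ≤ 2 ^ (m + 1) := by
    rw [hk]; push_cast
    calc 2 * (2 : ℤ) ^ (k + 1) = 2 ^ (k + 1 + 1) := by ring
      _ ≤ 2 ^ (m + 1) := pow_le_pow_right₀ (by norm_num) (by omega)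
  have hm' : m = k + 1 := by
    by_contra hne
    have : 4 * (h : ℤ) ≤ 2 ^ (m + 1) := by
      rw [hk]; push_cast
      calc 4 * (2 : ℤ) ^ (k + 1) = 2 ^ (k + 2 + 1) := by ring
        _ ≤ 2 ^ (m + 1) := pow_le_pow_right₀ (by norm_num) (by omega)
    linarith
  refine ⟨hm', fun ψ hne hψ => ?_⟩
  have hself : redInt 2 B χ.1 χ.1 = 2 * (h : ℤ) := by linarith
  have hnorm := S.redInt_mul χ χ
  have hsum : ∑ φ : B, redInt 2 B χ.1 φ.1 * redInt 2 B χ.1 φ.1 =
      ∑ φ ∈ htZero B, redInt 2 B χ.1 φ.1 * redInt 2 B χ.1 φ.1 +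
        (redInt 2 B χ.1 χ.1 * redInt 2 B χ.1 χ.1 +
          ∑ φ ∈ (univ.filter fun φ : B => ¬ hgt B φ = 0).erase χ,
            redInt 2 B χ.1 φ.1 * redInt 2 B χ.1 φ.1) := by
    rw [← sum_filter_add_sum_filter_not univ (fun φ : B => hgt B φ = 0),
      add_sum_erase _ (fun φ : B => redInt 2 B χ.1 φ.1 * redInt 2 B χ.1 φ.1)
        (mem_filter.2 ⟨mem_univ χ, hχ⟩)]
    rfl
  rw [sum_congr rfl fun φ _ => by rw [redInt_comm φ.1], hsum, hself] at hnorm
  have hX4 : (4 : ℤ) * ((h : ℤ) * h) ≤ ∑ φ ∈ htZero B, redInt 2 B χ.1 φ.1 * redInt 2 B χ.1 φ.1 := by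
    refine le_trans ?_ (card_nsmul_le_sum _ _ ((h : ℤ) * h) fun φ hφ => ?_)
    · rw [(S.card_htZero R).1]; simp
    · rw [← abs_mul_abs_self (redInt 2 B χ.1 φ.1)]
      exact mul_self_le_mul_self (by positivity) (hlow φ (mem_filter.1 hφ).2)
  have hz : ∑ φ ∈ (univ.filter fun φ : B => ¬ hgt B φ = 0).erase χ,
      redInt 2 B χ.1 φ.1 * redInt 2 B χ.1 φ.1 = 0 := by
    refine le_antisymm ?_ (sum_nonneg fun _ _ => mul_self_nonneg _)
    push_cast at hnorm
    linarith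
  exact mul_self_eq_zero.1 ((sum_eq_zero_iff_of_nonneg fun _ _ => mul_self_nonneg _).1 hz ψ
    (mem_erase.2 ⟨hne, mem_filter.2 ⟨mem_univ _, hψ⟩⟩))

/-- The members split in three. -/
theorem card_split : Nat.card B = 4 + (S.withVec R).card + (S.noVec R).card := by
  rw [Nat.card_eq_fintype_card, ← card_univ, ← (S.card_htZero R).1]
  have hd : Disjoint (htZero B) (S.withVec R) :=
    disjoint_right.2 fun χ hχ => ((S.mem_withVec R).1 hχ).1
  rw [← card_union_of_disjoint hd, ← card_union_of_disjoint]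
  · congr 1
    refine (eq_univ_of_forall fun χ => ?_).symm
    by_cases h1 : χ ∈ htZero B ∪ S.withVec R
    · exact mem_union_left _ h1
    · rw [mem_union, not_or] at h1
      exact mem_union_right _ (mem_filter.2 ⟨mem_univ _, h1⟩)
  · refine disjoint_right.2 fun χ hχ hu => ?_
    obtain ⟨-, h1, h2⟩ := mem_filter.1 hχ
    rcases mem_union.1 hu with h3 | h3
    exacts [h1 h3, h2 h3]

/-- **The invariants.** -/
theorem main {k : ℕ} (hk : h = 2 ^ (k + 1)) :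
    1 ≤ blockRank 2 B ∧ blockRank 2 B ≤ 3 ∧ Nat.card B = blockRank 2 B + h + 2 ∧
      (htZero B).card = 4 ∧ (∀ χ : B, hgt B χ = 0 ∨ hgt B χ = 1 ∨ hgt B χ = k + 1) ∧
      (4 ≤ h → (univ.filter fun χ : B => hgt B χ = 1).card = h - 1) := by
  obtain ⟨hX, hon, hoff⟩ := S.card_htZero R
  have V := S.latticeData R
  obtain ⟨hEle, hEne, hEspec⟩ := V.main
  change (S.withVec R).card + 1 ≤ h at hEle
  change 4 ≤ h → (S.withVec R).Nonempty at hEne
  have hl1 : 1 ≤ blockRank 2 B := CfsgLib.Block.GapOneElementary.one_le_blockRank S.hM S.hB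
  have hcard : Nat.card B = blockRank 2 B + h + 2 := by
    haveI : Fintype C[Z[σ ^ h]] := Fintype.ofFinite _
    obtain ⟨f, hf, hfe, -⟩ := exists_sub S.hM S.hB S.hmax (S.pow_mem_D h)
    have h1 := S.card_eq hf hfe
    have h2 := S.rank_z_add_oth hf hfe
    have := S.h_pos
    omega
  have hnot : ∀ r ∈ S.noVec R, hgt B r ≠ 0 := fun r hr e1 =>
    (mem_filter.1 hr).2.1 (mem_filter.2 ⟨mem_univ _, e1⟩)
  have hreg : ∀ χ ψ : B, redInt 2 B χ.1 ψ.1 = 0 → regMat 2 B χ ψ = 0 := fun χ ψ e1 => by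
    have h1 := S.redInt_cast χ ψ
    rw [e1, Int.cast_zero] at h1
    exact (mul_eq_zero.1 h1.symm).resolve_left S.four_h_ne
  have hdiag : ∀ χ : B, regMat 2 B χ χ ≠ 0 := fun χ e1 => (S.redInt_diag_pos χ).ne' (by
    have h1 := S.redInt_cast χ χ
    rw [e1, mul_zero] at h1
    exact_mod_cast h1)
  -- a family of orthogonal rows
  have hfam : ∃ T : Finset B, T.card = blockRank 2 B ∧ (∀ χ ∈ T, hgt B χ ≠ 0) ∧
      (∀ χ ∈ T, χ ∉ S.noVec R → ∀ ψ ∈ T, ψ ∉ S.noVec R → χ = ψ) ∧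
      ((S.withVec R).Nonempty → (S.withVec R).card + 1 = h) ∧
      (4 ≤ h → (S.withVec R).card + 1 = h) := by
    have hsplit := S.card_split R
    by_cases h4 : 4 ≤ h
    · obtain ⟨x₀, hx₀⟩ := hEne h4
      have hx₀X : hgt B x₀ ≠ 0 := fun e1 =>
        ((S.mem_withVec R).1 hx₀).1 (mem_filter.2 ⟨mem_univ _, e1⟩)
      have hx₀N : x₀ ∉ S.noVec R := fun e1 => (mem_filter.1 e1).2.2 hx₀
      have hle : (insert x₀ (S.noVec R)).card ≤ blockRank 2 B := by
        refine card_le_blockRank S.hM S.hB _ (fun χ _ => hdiag χ) fun χ hχ ψ hψ hne => hreg _ _ ?_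
        rcases mem_insert.1 hχ with rfl | hχ'
        · rcases mem_insert.1 hψ with rfl | hψ'
          · exact absurd rfl hne
          · rw [redInt_comm]
            exact (S.noVec_spec R hk hψ').2 χ hne hx₀X
        · refine (S.noVec_spec R hk hχ').2 ψ (Ne.symm hne) ?_
          rcases mem_insert.1 hψ with rfl | hψ'
          exacts [hx₀X, hnot ψ hψ']
      rw [card_insert_of_notMem hx₀N] at hle
      refine ⟨insert x₀ (S.noVec R), ?_, fun χ hχ => ?_, fun χ hχ hn ψ hψ hn' => ?_, ?_⟩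
      · rw [card_insert_of_notMem hx₀N]; omega
      · rcases mem_insert.1 hχ with rfl | hχ'
        exacts [hx₀X, hnot χ hχ']
      · rw [(mem_insert.1 hχ).resolve_right hn, (mem_insert.1 hψ).resolve_right hn']
      · exact ⟨fun _ => by omega, fun _ => by omega⟩
    · have h2 := S.h_two
      have := S.h_pos
      have hE0 : (S.withVec R).card = 0 := card_eq_zero.2 (eq_empty_of_forall_notMem fun χ hχ => by
        obtain ⟨hnX, j, hj, hne⟩ := (S.mem_withVec R).1 hχ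
        rw [mem_Icc] at hj
        exact hne (by rw [show j = h by omega]; exact hoff χ hnX))
      have h5 : h = 2 := by omega
      exact ⟨S.noVec R, by omega, hnot, fun χ hχ hn => absurd hχ hn,
        fun hne => absurd (card_pos.2 hne) (by omega), fun h6 => absurd h6 h4⟩
  obtain ⟨T, hT, hTpos, hTone, hEeq, hEeq'⟩ := hfam
  have hht1 : ∀ χ ∈ S.withVec R, hgt B χ = 1 := fun χ hχ => by
    have hpos : hgt B χ ≠ 0 := fun e1 =>
      ((S.mem_withVec R).1 hχ).1 (mem_filter.2 ⟨mem_univ _, e1⟩)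
    have h1 : S.rotNorm R χ = 4 * (h : ℤ) - 8 := hEspec (hEeq ⟨χ, hχ⟩) χ hχ
    obtain ⟨hQ, hQd⟩ := S.z_part R hpos
    rw [h1] at hQ hQd
    have hA := S.redInt_diag_pos χ
    have hA2 := Int.le_of_dvd hA
      (show (2 : ℤ) ^ (hgt B χ + 1) ∣ redInt 2 B χ.1 χ.1 by
        exact_mod_cast (pow_dvd_redInt S.hM S.hB χ.2 χ.2).2.2 hpos)
    have hQ2 := Int.le_of_dvd hQ hQd
    by_contra hne
    have : (2 : ℤ) ^ 3 ≤ 2 ^ (hgt B χ + 1) := pow_le_pow_right₀ (by norm_num) (by omega)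
    linarith
  have hcover : ∀ χ : B, χ ∈ htZero B ∨ χ ∈ S.withVec R ∨ χ ∈ S.noVec R := fun χ => by
    by_cases h1 : χ ∈ htZero B
    · exact Or.inl h1
    by_cases h2 : χ ∈ S.withVec R
    · exact Or.inr (Or.inl h2)
    exact Or.inr (Or.inr (mem_filter.2 ⟨mem_univ _, h1, h2⟩))
  refine ⟨hl1, ?_, hcard, hX, fun χ => ?_, fun h4 => ?_⟩
  · -- the sign vector and the rows are orthogonal on the four members of height zero
    let w : Option T → B → ℤ := fun o φ => o.elim (R.vec φ.1 h) fun r => redInt 2 B r.1.1 φ.1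
    have hvec : ∀ r : B, ∑ φ ∈ htZero B, redInt 2 B r.1 φ.1 * R.vec φ.1 h = 0 := fun r => by
      rw [sum_subset (subset_univ _) fun φ _ hφ => by rw [hoff φ hφ, mul_zero]]
      apply Int.cast_injective (α := ℂ)
      have h1 := R.sum_reg_vec r h
      push_cast
      simp only [S.redInt_cast, mul_assoc]
      rw [← mul_sum, h1, mul_zero]
    have hpair : ∀ r r' : B, r ∈ S.noVec R → r' ≠ r → hgt B r' ≠ 0 →
        ∑ φ ∈ htZero B, redInt 2 B r.1 φ.1 * redInt 2 B r'.1 φ.1 = 0 := by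
      intro r r' hr hne hr'
      have hz := (S.noVec_spec R hk hr).2
      rw [sum_subset (subset_univ _) fun φ _ hφ => ?_]
      · rw [sum_congr rfl fun φ _ => by rw [redInt_comm r'.1], S.redInt_mul, hz r' hne hr',
          mul_zero]
      · by_cases e1 : φ = r
        · subst e1
          rw [redInt_comm r'.1, hz r' hne hr', mul_zero]
        · rw [hz φ e1 fun e2 => hφ (mem_filter.2 ⟨mem_univ _, e2⟩), zero_mul]
    have horth : ∀ i j : Option T, i ≠ j → ∑ φ ∈ htZero B, w i φ * w j φ = 0 := by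
      rintro (_ | r) (_ | r') hne
      · exact absurd rfl hne
      · refine Eq.trans (sum_congr rfl fun φ _ => mul_comm _ _) (hvec r'.1)
      · exact hvec r.1
      · have hne' : r.1 ≠ r'.1 := fun e1 => hne (congrArg some (Subtype.ext e1))
        by_cases hr : r.1 ∈ S.noVec R
        · exact hpair _ _ hr (Ne.symm hne') (hTpos _ r'.2)
        · have hr' : r'.1 ∈ S.noVec R := by_contra fun hn => hne' (hTone _ r.2 hr _ r'.2 hn)
          exact Eq.trans (sum_congr rfl fun φ _ => mul_comm _ _)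
            (hpair _ _ hr' hne' (hTpos _ r.2))
    obtain ⟨φ₀, hφ₀⟩ := card_pos.1 (show 0 < (htZero B).card by omega)
    have hne : ∀ i : Option T, ∃ φ ∈ htZero B, w i φ ≠ 0 := by
      rintro (_ | r)
      · refine ⟨φ₀, hφ₀, ?_⟩
        show R.vec φ₀.1 h ≠ 0
        rcases hon φ₀ hφ₀ with e1 | e1 <;> omega
      · exact ⟨φ₀, hφ₀, S.redInt_ne_of_zero (mem_filter.1 hφ₀).2⟩
    have h1 := card_le_of_orth (htZero B) w horth hne
    rw [Fintype.card_option, Fintype.card_coe, hX, hT] at h1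
    omega
  · rcases hcover χ with h1 | h1 | h1
    · exact Or.inl (mem_filter.1 h1).2
    · exact Or.inr (Or.inl (hht1 χ h1))
    · exact Or.inr (Or.inr (S.noVec_spec R hk h1).1)
  · rw [show (univ.filter fun χ : B => hgt B χ = 1) = S.withVec R from Finset.ext fun χ => ?_]
    · have := hEeq' h4; omega
    simp only [mem_filter, mem_univ, true_and]
    refine ⟨fun e1 => ?_, hht1 χ⟩
    rcases hcover χ with h1 | h1 | h1
    · have := (mem_filter.1 h1).2; omega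
    · exact h1
    · have h2 := (S.noVec_spec R hk h1).1
      have : k ≠ 0 := fun e2 => by rw [hk, e2] at h4; norm_num at h4
      omega

end QuatData

/-- **The invariants of a block with quaternion defect group.** -/
theorem invariants {G : Type u} [Group G] [Finite G] {M : Ideal AlgInt} (hM : IsPModular 2 M)
    {B : Set (IrrCharacter G)} (hB : IsPBlock M B) {D : Subgroup G}
    (hD : IsDefectGroup 2 M B D) {n : ℕ} (hn : 3 ≤ n)
    (e0 : D ≃* QuaternionGroup (2 ^ (n - 2))) :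
    1 ≤ blockRank 2 B ∧ blockRank 2 B ≤ 3 ∧ Nat.card B = blockRank 2 B + 2 ^ (n - 2) + 2 ∧
      Nat.card {χ : IrrCharacter G // χ ∈ B ∧ blockHeight 2 B (χ : G → ℂ) = 0} = 4 ∧
      (∀ χ ∈ B, blockHeight 2 B (χ : G → ℂ) = 0 ∨ blockHeight 2 B (χ : G → ℂ) = 1 ∨
        blockHeight 2 B (χ : G → ℂ) = n - 2) ∧
      (4 ≤ n → Nat.card {χ : IrrCharacter G // χ ∈ B ∧ blockHeight 2 B (χ : G → ℂ) = 1} =
        2 ^ (n - 2) - 1) := by
  haveI : Fact (Nat.Prime 2) := ⟨Nat.prime_two⟩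
  haveI := hM.2.1.isPrime
  haveI := charP_residue hM
  haveI := Fintype.ofFinite G
  haveI : Fintype B := Fintype.ofFinite B
  obtain ⟨e, σ, τ, S⟩ := exists_data hM hB hD hn e0
  obtain ⟨th, R⟩ := S.exists_rotVals
  obtain ⟨h1, h2, h3, h4, h5, h6⟩ := S.main R (k := n - 3) (by
    rw [show n - 3 + 1 = n - 2 by omega])
  have hcount : ∀ m, Nat.card {χ : IrrCharacter G // χ ∈ B ∧ blockHeight 2 B (χ : G → ℂ) = m} =
      (univ.filter fun χ : B => hgt B χ = m).card := fun m => by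
    rw [Nat.card_congr (Equiv.subtypeSubtypeEquivSubtypeInter _ _).symm,
      Nat.card_eq_fintype_card, Fintype.card_subtype]
    rfl
  refine ⟨h1, h2, h3, (hcount 0).trans h4, fun χ hχ => ?_, fun hn4 => (hcount 1).trans (h6 ?_)⟩
  · rcases h5 ⟨χ, hχ⟩ with h | h | h
    · exact Or.inl h
    · exact Or.inr (Or.inl h)
    · exact Or.inr (Or.inr (h.trans (by omega)))
  · calc 4 = 2 ^ 2 := rfl
      _ ≤ 2 ^ (n - 2) := Nat.pow_le_pow_right two_pos (by omega)

end CfsgLib.QuatDefect
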