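import Cfsg.Agent.BlocksB.DihedralDefect.Local
import Cfsg.Agent.Invol.Dihedral
import Mathlib.GroupTheory.SpecificGroups.Quaternion

/-!
# A block with quaternion defect group: the data and the fusion of its elements
-/

set_option autoImplicit false
set_option linter.style.haveILetI false
set_option linter.unusedSectionVars false

namespace CfsgLib.QuatDefect

open Cfsg Finset CfsgLib.Block CfsgLib.Block.Chr CfsgLib.BrauerPairs CfsgLib.BlockStar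
open scoped Classical

universe u

variable {M : Ideal AlgInt} [M.IsPrime] [Fact (Nat.Prime 2)] [CharP (Residue M) 2]
  {G : Type u} [Group G] [Fintype G]

local notation "𝕜" => Residue M
local notation "Z[" x "]" => Subgroup.zpowers x
local notation "C[" Q "]" => Subgroup.centralizer (SetLike.coe Q)

/-- Two elements with the blocks below a maximal pair are carried onto each other. -/
def Fus (D : Subgroup G) (e : MonoidAlgebra 𝕜 G) (u v : G) : Prop :=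
  ∃ g, g * u * g⁻¹ = v ∧ cj 𝕜 g (subBlk 2 D e u) = subBlk 2 D e v

section fus

variable {D : Subgroup G} {e : MonoidAlgebra (Residue M) G} {u v x : G}

theorem Fus.refl (u : G) : Fus D e u u := ⟨1, by simp, cj_one _⟩

theorem Fus.symm (h : Fus D e u v) : Fus D e v u := by
  obtain ⟨g, rfl, hg⟩ := h
  exact ⟨g⁻¹, by group, by rw [← hg, cj_inv_cj]⟩

theorem Fus.trans (h : Fus D e u v) (h' : Fus D e v x) : Fus D e u x := by
  obtain ⟨g, rfl, hg⟩ := h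
  obtain ⟨g', rfl, hg'⟩ := h'
  exact ⟨g' * g, by group, by rw [cj_mul, hg, hg']⟩

theorem Fus.orderOf_eq (h : Fus D e u v) : orderOf u = orderOf v := by
  obtain ⟨g, rfl, -⟩ := h
  exact ((MulAut.conj g).orderOf_eq u).symm

theorem fus_conj (hP : IsPair 2 (D, e)) {w : G} (hu : u ∈ D) (hw : w ∈ D) :
    Fus D e u (w * u * w⁻¹) :=
  ⟨w, rfl, subBlk_conj hP hu hw⟩

theorem fus_of_carries (hP : IsPair 2 (D, e)) {g : G} (hu : u ∈ D)
    (h : Carries 2 (D, e) Z[u] g) : g * u * g⁻¹ ∈ D ∧ Fus D e u (g * u * g⁻¹) := by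
  have h1 := Carries.ple hP h (subBlk_ple hP hu)
  rw [cjPair_zpowers] at h1
  have hm : g * u * g⁻¹ ∈ D := PLE.le h1 (Subgroup.mem_zpowers _)
  exact ⟨hm, g, rfl, ple_unique hP h1 (subBlk_ple hP hm)⟩

theorem Fus.pow (hP : IsPair 2 (D, e)) (hu : u ∈ D) (hv : v ∈ D) (h : Fus D e u v) (k : ℕ) :
    Fus D e (u ^ k) (v ^ k) := by
  obtain ⟨g, hg, hgf⟩ := h
  refine ⟨g, by rw [← conj_pow, hg], ?_⟩
  have hle := subBlk_ple hP hu
  obtain ⟨f, hf, -⟩ := existsUnique_ple (PLE.isPair hle hP)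
    (Subgroup.zpowers_le.2 (Subgroup.pow_mem _ (Subgroup.mem_zpowers u) k))
  have hfe : f = subBlk 2 D e (u ^ k) :=
    ple_unique hP (hf.trans hle) (subBlk_ple hP (D.pow_mem hu k))
  have h2 := hf.cj g
  rw [cjPair_zpowers, cjPair_zpowers, hg, hgf, ← conj_pow, hg, hfe] at h2
  exact ple_unique hP (h2.trans (subBlk_ple hP hv)) (subBlk_ple hP (D.pow_mem hv k))

end fus

/-- The data of a maximal pair of a block with quaternion defect group of order `4 * h`. -/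
structure QuatData (B : Set (IrrCharacter G)) (D : Subgroup G) (e : MonoidAlgebra (Residue M) G)
    (σ τ : G) (h : ℕ) : Prop where
  hM : IsPModular 2 M
  hB : IsPBlock M B
  hmax : IsMaxPair 2 (idem M B) (D, e)
  hh : ∃ k : ℕ, h = 2 ^ (k + 1)
  ordσ : orderOf σ = 2 * h
  sq : τ * τ = σ ^ h
  rel : τ * σ * τ⁻¹ = σ⁻¹
  σ_mem : σ ∈ D
  τ_mem : τ ∈ D
  cases : ∀ g ∈ D, ∃ i : ℤ, g = σ ^ i ∨ g = σ ^ i * τ
  card : Nat.card D = 4 * h
  τ_not : τ ∉ Subgroup.zpowers σ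
  defect : 2 ^ blockDefect 2 B = 4 * h

/-- The data exist. -/
theorem exists_data (hM : IsPModular 2 M) {B : Set (IrrCharacter G)} (hB : IsPBlock M B)
    {D : Subgroup G} (hD : IsDefectGroup 2 M B D) {n : ℕ} (hn : 3 ≤ n)
    (e0 : D ≃* QuaternionGroup (2 ^ (n - 2))) :
    ∃ (e : MonoidAlgebra 𝕜 G) (σ τ : G), QuatData (M := M) B D e σ τ (2 ^ (n - 2)) := by
  obtain ⟨e, he⟩ := exists_isMaxPair (isBlk_idem hM hB) (isDef_of_isDefectGroup hM hB hD)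
  set h := 2 ^ (n - 2) with hh
  haveI : NeZero h := ⟨(Nat.two_pow_pos _).ne'⟩
  set s : D := e0.symm (QuaternionGroup.a 1) with hs
  set t : D := e0.symm (QuaternionGroup.xa 0) with ht
  have hcard : Nat.card D = 4 * h := by
    rw [Nat.card_congr e0.toEquiv, Nat.card_eq_fintype_card, QuaternionGroup.card]
  refine ⟨e, (s : G), (t : G), hM, hB, he, ⟨n - 3, by rw [hh, show n - 3 + 1 = n - 2 by omega]⟩,
    ?_, ?_, ?_, s.2, t.2, ?_, hcard, ?_, (card_defectGroup hM hB hD).symm.trans hcard⟩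
  · rw [Subgroup.orderOf_coe, hs, e0.symm.orderOf_eq, QuaternionGroup.orderOf_a_one]
  · rw [← Subgroup.coe_mul, ← SubmonoidClass.coe_pow]
    refine congrArg Subtype.val (e0.injective ?_)
    rw [map_mul, map_pow, hs, ht, e0.apply_symm_apply, e0.apply_symm_apply,
      QuaternionGroup.xa_mul_xa, QuaternionGroup.a_one_pow]
    simp
  · rw [← Subgroup.coe_mul, ← Subgroup.coe_inv, ← Subgroup.coe_mul, ← Subgroup.coe_inv]
    refine congrArg Subtype.val (mul_inv_eq_iff_eq_mul.2 (e0.injective ?_))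
    rw [map_mul, map_mul, map_inv, hs, ht, e0.apply_symm_apply, e0.apply_symm_apply,
      QuaternionGroup.xa_mul_a]
    show _ = QuaternionGroup.a (-(1 : ZMod (2 * h))) * QuaternionGroup.xa 0
    rw [QuaternionGroup.a_mul_xa]
    simp
  · intro g hg
    have hsi : ∀ i : ZMod (2 * h), e0.symm (QuaternionGroup.a i) = s ^ (i.val : ℤ) := fun i => by
      rw [zpow_natCast, hs, ← map_pow, QuaternionGroup.a_one_pow, ZMod.natCast_zmod_val]
    rcases hq : e0 ⟨g, hg⟩ with i | i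
    · refine ⟨(i.val : ℤ), Or.inl ?_⟩
      have h1 : (⟨g, hg⟩ : D) = s ^ (i.val : ℤ) := by rw [← hsi, ← hq, e0.symm_apply_apply]
      simpa using congrArg Subtype.val h1
    · refine ⟨((-i).val : ℤ), Or.inr ?_⟩
      have h1 : (⟨g, hg⟩ : D) = s ^ ((-i).val : ℤ) * t := by
        rw [← hsi, ht, ← map_mul, QuaternionGroup.a_mul_xa, zero_sub, neg_neg, ← hq,
          e0.symm_apply_apply]
      simpa using congrArg Subtype.val h1
  · intro hm
    have h1 : t ∈ Subgroup.zpowers s := by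
      obtain ⟨i, hi⟩ := Subgroup.mem_zpowers_iff.1 hm
      exact Subgroup.mem_zpowers_iff.2 ⟨i, Subtype.ext (by simpa using hi)⟩
    obtain ⟨j, hj⟩ := mem_powers_iff_mem_zpowers.2 h1
    have h2 : e0 (s ^ j) = e0 t := congrArg e0 hj
    rw [map_pow, hs, ht, e0.apply_symm_apply, e0.apply_symm_apply,
      QuaternionGroup.a_one_pow] at h2
    exact QuaternionGroup.noConfusion rfl (heq_of_eq h2)

namespace QuatData

variable {B : Set (IrrCharacter G)} {D : Subgroup G} {e : MonoidAlgebra (Residue M) G}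
  {σ τ : G} {h : ℕ} (S : QuatData (M := M) B D e σ τ h)
include S

theorem h_pos : 0 < h := by
  obtain ⟨k, rfl⟩ := S.hh; exact Nat.two_pow_pos _

theorem h_two : h = 2 * (h / 2) := by
  obtain ⟨k, rfl⟩ := S.hh; rw [pow_succ]; omega

theorem half_mem : h / 2 ∈ Ico 1 h := by
  have := S.h_two; have := S.h_pos; rw [mem_Ico]; omega

theorem pair : IsPair 2 (D, e) := S.hmax.1.1

theorem rot_mem {a : G} (ha : a ∈ Z[σ]) : a ∈ D := (Subgroup.zpowers_le.2 S.σ_mem) ha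

theorem pow_mem_D (i : ℕ) : σ ^ i ∈ D := D.pow_mem S.σ_mem i

theorem zpow_eq_one {i : ℤ} : σ ^ i = 1 ↔ 2 * (h : ℤ) ∣ i := by
  rw [← orderOf_dvd_iff_zpow_eq_one, S.ordσ]; push_cast; rfl

theorem pow_eq_one {i : ℕ} : σ ^ i = 1 ↔ 2 * h ∣ i := by
  rw [← orderOf_dvd_iff_pow_eq_one, S.ordσ]

theorem pow_ne_one {i : ℕ} (h1 : 1 ≤ i) (h2 : i < 2 * h) : σ ^ i ≠ 1 := fun he => by
  have := Nat.le_of_dvd (by omega) (S.pow_eq_one.1 he); omega

theorem pow_inj {i j : ℕ} (hi : i < 2 * h) (hj : j < 2 * h) (he : σ ^ i = σ ^ j) : i = j :=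
  pow_injOn_Iio_orderOf (show i ∈ Set.Iio (orderOf σ) by rw [S.ordσ]; simpa using hi)
    (show j ∈ Set.Iio (orderOf σ) by rw [S.ordσ]; simpa using hj) he

theorem z_ne_one : σ ^ h ≠ 1 := S.pow_ne_one S.h_pos (by have := S.h_pos; omega)

theorem z_sq : σ ^ h * σ ^ h = 1 := by rw [← pow_add, ← two_mul, S.pow_eq_one]

theorem z_inv : (σ ^ h)⁻¹ = σ ^ h := inv_eq_of_mul_eq_one_right S.z_sq

theorem orderOf_z : orderOf (σ ^ h) = 2 :=
  CfsgLib.Invol.orderOf_eq_two S.z_sq S.z_ne_one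

theorem w_sq : σ ^ (h / 2) * σ ^ (h / 2) = σ ^ h := by
  rw [← pow_add, ← two_mul, ← S.h_two]

theorem orderOf_four {a : G} (ha : a * a = σ ^ h) : orderOf a = 4 := by
  refine orderOf_eq_prime_pow (p := 2) (n := 1) ?_ ?_
  · rw [pow_one, pow_two, ha]; exact S.z_ne_one
  · rw [show (2 : ℕ) ^ (1 + 1) = 2 + 2 by norm_num, pow_add, pow_two, ha, S.z_sq]

theorem eq_z {a : G} (ha : a ∈ Z[σ]) (h2 : a * a = 1) : a = 1 ∨ a = σ ^ h := by
  obtain ⟨i, rfl⟩ := Subgroup.mem_zpowers_iff.1 ha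
  rw [← zpow_add, S.zpow_eq_one] at h2
  obtain ⟨c, hc⟩ := h2
  rcases Int.even_or_odd c with ⟨j, rfl⟩ | ⟨j, rfl⟩
  · exact Or.inl (S.zpow_eq_one.2 ⟨j, by linarith⟩)
  · right
    rw [show i = (h : ℤ) + 2 * (h : ℤ) * j by linarith, zpow_add,
      S.zpow_eq_one.2 ⟨j, rfl⟩, mul_one, zpow_natCast]

theorem eq_w {a : G} (ha : a ∈ Z[σ]) (h2 : a * a = σ ^ h) :
    a = σ ^ (h / 2) ∨ a = (σ ^ (h / 2))⁻¹ := by
  have hc : Commute a (σ ^ (h / 2))⁻¹ := by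
    obtain ⟨i, rfl⟩ := Subgroup.mem_zpowers_iff.1 ha
    exact ((Commute.zpow_self σ i).pow_right _).inv_right
  have h3 : a * (σ ^ (h / 2))⁻¹ * (a * (σ ^ (h / 2))⁻¹) = 1 := by
    rw [show a * (σ ^ (h / 2))⁻¹ * (a * (σ ^ (h / 2))⁻¹) =
      a * a * ((σ ^ (h / 2))⁻¹ * (σ ^ (h / 2))⁻¹) from by
        rw [mul_assoc, ← mul_assoc _ a, ← hc.eq]; group, h2, ← mul_inv_rev, S.w_sq, mul_inv_cancel]
  rcases S.eq_z (mul_mem ha (inv_mem (Subgroup.pow_mem _ (Subgroup.mem_zpowers σ) _))) h3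
    with e1 | e1
  · exact Or.inl (mul_inv_eq_one.1 e1)
  · right
    have e2 : a = σ ^ h * σ ^ (h / 2) := by rw [← e1, inv_mul_cancel_right]
    rw [e2, eq_inv_iff_mul_eq_one, mul_assoc, S.w_sq, S.z_sq]

/-- A rotation of order at least four has `w` as a power. -/
theorem exists_pow_w {a : G} (ha : a ∈ Z[σ]) (ha1 : a * a ≠ 1) :
    ∃ r : ℕ, a ^ r = σ ^ (h / 2) := by
  obtain ⟨k, hk⟩ := S.hh
  have hd : orderOf a ∣ 2 ^ (k + 2) := by
    rw [show 2 ^ (k + 2) = orderOf σ by rw [S.ordσ, hk]; ring]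
    exact (Subgroup.orderOf_dvd_natCard _ ha).trans (Nat.card_zpowers σ).dvd
  obtain ⟨j, -, hj⟩ := (Nat.dvd_prime_pow Nat.prime_two).1 hd
  have hj1 : 2 ≤ j := by
    by_contra hlt
    refine ha1 ?_
    rw [← pow_two]
    exact orderOf_dvd_iff_pow_eq_one.1 (hj ▸ pow_dvd_pow 2 (show j ≤ 1 by omega))
  obtain ⟨i, rfl⟩ : ∃ i, j = i + 2 := ⟨j - 2, by omega⟩
  set b := a ^ 2 ^ i with hb
  have h4 : orderOf b = 4 := by
    rw [hb, orderOf_pow_of_dvd (Nat.two_pow_pos i).ne' (hj ▸ pow_dvd_pow 2 (by omega)), hj,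
      pow_add, Nat.mul_div_cancel_left _ (Nat.two_pow_pos i)]
    norm_num
  have hb4 : b * b * (b * b) = 1 := by
    rw [← pow_orderOf_eq_one b, h4, show (4 : ℕ) = 2 + 2 from rfl, pow_add, pow_two]
  have hb2 : b * b ≠ 1 := fun e1 => by
    have := Nat.le_of_dvd two_pos (orderOf_dvd_of_pow_eq_one
      (show b ^ 2 = 1 by rw [pow_two]; exact e1))
    omega
  have hbσ : b ∈ Z[σ] := Subgroup.pow_mem _ ha _
  rcases S.eq_w hbσ ((S.eq_z (mul_mem hbσ hbσ) hb4).resolve_left hb2) with e1 | e1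
  · exact ⟨2 ^ i, e1⟩
  · refine ⟨2 ^ i * 3, ?_⟩
    rw [pow_mul, ← hb, show σ ^ (h / 2) = b⁻¹ by rw [e1, inv_inv], eq_inv_iff_mul_eq_one,
      ← pow_succ, show 3 + 1 = orderOf b from h4.symm]
    exact pow_orderOf_eq_one b

theorem τ_rot (i : ℤ) : τ * σ ^ i * τ⁻¹ = σ ^ (-i) := by
  rw [← conj_zpow, S.rel, inv_zpow']

theorem τ_rot' (i : ℕ) : τ * σ ^ i * τ⁻¹ = (σ ^ i)⁻¹ := by
  rw [← zpow_natCast, S.τ_rot, zpow_neg]

theorem τ_mul_rot (i : ℤ) : τ * σ ^ i = σ ^ (-i) * τ := mul_inv_eq_iff_eq_mul.1 (S.τ_rot i)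

theorem refl_not (i : ℤ) : σ ^ i * τ ∉ Z[σ] := fun hm =>
  S.τ_not ((Subgroup.mul_mem_cancel_left _ (Subgroup.zpow_mem _ (Subgroup.mem_zpowers σ) i)).1 hm)

theorem exists_refl {g : G} (hg : g ∈ D) (hn : g ∉ Z[σ]) : ∃ i : ℤ, g = σ ^ i * τ := by
  obtain ⟨i, rfl | rfl⟩ := S.cases g hg
  · exact absurd (Subgroup.zpow_mem _ (Subgroup.mem_zpowers σ) i) hn
  · exact ⟨i, rfl⟩

theorem refl_sq {g : G} (hg : g ∈ D) (hn : g ∉ Z[σ]) : g * g = σ ^ h := by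
  obtain ⟨i, rfl⟩ := S.exists_refl hg hn
  rw [mul_assoc, ← mul_assoc τ, S.τ_mul_rot, mul_assoc _ τ, S.sq, ← mul_assoc, ← zpow_add,
    add_neg_cancel, zpow_zero, one_mul]

theorem refl_inv_rot {g a : G} (hg : g ∈ D) (hn : g ∉ Z[σ]) (ha : a ∈ Z[σ]) :
    g * a * g⁻¹ = a⁻¹ := by
  obtain ⟨i, rfl⟩ := S.exists_refl hg hn
  obtain ⟨j, rfl⟩ := Subgroup.mem_zpowers_iff.1 ha
  rw [mul_inv_rev, show σ ^ i * τ * σ ^ j * (τ⁻¹ * (σ ^ i)⁻¹) =
      σ ^ i * (τ * σ ^ j * τ⁻¹) * (σ ^ i)⁻¹ by group, S.τ_rot, ← zpow_neg, ← zpow_add,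
      ← zpow_add, ← zpow_neg]
  congr 1; ring

theorem rot_comm {a b : G} (ha : a ∈ Z[σ]) (hb : b ∈ Z[σ]) : a * b = b * a := by
  obtain ⟨i, rfl⟩ := Subgroup.mem_zpowers_iff.1 ha
  obtain ⟨j, rfl⟩ := Subgroup.mem_zpowers_iff.1 hb
  rw [← zpow_add, ← zpow_add, add_comm]

theorem conj_rot {w a : G} (hw : w ∈ D) (ha : a ∈ Z[σ]) :
    w * a * w⁻¹ = a ∨ w * a * w⁻¹ = a⁻¹ := by
  by_cases hn : w ∈ Z[σ]
  · exact Or.inl (mul_inv_eq_iff_eq_mul.2 (S.rot_comm hn ha))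
  · exact Or.inr (S.refl_inv_rot hw hn ha)

theorem z_comm {g : G} (hg : g ∈ D) : g * σ ^ h = σ ^ h * g := by
  rcases S.conj_rot hg (Subgroup.pow_mem _ (Subgroup.mem_zpowers σ) h) with e1 | e1
  · exact mul_inv_eq_iff_eq_mul.1 e1
  · rw [S.z_inv] at e1; exact mul_inv_eq_iff_eq_mul.1 e1

theorem le_centralizer : D ≤ C[Z[σ ^ h]] := fun _ hg => mem_cz.2 (S.z_comm hg)

/-- The centralizer in `D` of an element inverted by the others. -/
theorem inf_centralizer_rot {a : G} (ha : a ∈ Z[σ]) (ha2 : a * a ≠ 1) :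
    (D ⊓ C[Z[a]] : Subgroup G) = Z[σ] := by
  refine le_antisymm (fun g hg => ?_) (le_inf (Subgroup.zpowers_le.2 S.σ_mem)
    (fun g hg => mem_cz.2 (S.rot_comm hg ha)))
  by_contra hn
  refine ha2 ?_
  have h1 := S.refl_inv_rot hg.1 hn ha
  rw [mul_inv_eq_iff_eq_mul.2 (mem_cz.1 hg.2)] at h1
  exact eq_inv_iff_mul_eq_one.1 h1

theorem card_centralizer_rot {a : G} (ha : a ∈ Z[σ]) (ha2 : a * a ≠ 1) :
    Nat.card (D ⊓ C[Z[a]] : Subgroup G) = 2 * h := by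
  rw [S.inf_centralizer_rot ha ha2, Nat.card_zpowers, S.ordσ]

theorem inf_centralizer_refl {g : G} (hg : g ∈ D) (hn : g ∉ Z[σ]) :
    (D ⊓ C[Z[g]] : Subgroup G) = Z[g] := by
  refine le_antisymm (fun q hq => ?_) (le_inf (Subgroup.zpowers_le.2 hg)
    (fun q hq => mem_cz.2 ?_))
  · have hrot : ∀ r ∈ Z[σ], r * g = g * r → r ∈ Z[g] := fun r hr hc => by
      have h1 := S.refl_inv_rot hg hn hr
      rw [mul_inv_eq_iff_eq_mul.2 hc.symm] at h1
      rcases S.eq_z hr (eq_inv_iff_mul_eq_one.1 h1) with e1 | e1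
      · rw [e1]; exact one_mem _
      · rw [e1, ← S.refl_sq hg hn]
        exact mul_mem (Subgroup.mem_zpowers g) (Subgroup.mem_zpowers g)
    have hc := mem_cz.1 hq.2
    by_cases hqs : q ∈ Z[σ]
    · exact hrot q hqs hc
    · obtain ⟨i, rfl⟩ := S.exists_refl hq.1 hqs
      obtain ⟨j, rfl⟩ := S.exists_refl hg hn
      have e1 : σ ^ i * τ * (σ ^ j * τ)⁻¹ = σ ^ (i - j) := by rw [zpow_sub]; group
      have h2 := hrot _ (Subgroup.zpow_mem _ (Subgroup.mem_zpowers σ) (i - j))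
        (by rw [← e1, inv_mul_cancel_right, ← mul_assoc, ← hc, mul_inv_cancel_right])
      rw [← e1] at h2
      simpa using mul_mem h2 (Subgroup.mem_zpowers (σ ^ j * τ))
  · obtain ⟨i, rfl⟩ := Subgroup.mem_zpowers_iff.1 hq
    exact (Commute.zpow_self g i).eq

theorem card_centralizer_refl {g : G} (hg : g ∈ D) (hn : g ∉ Z[σ]) :
    Nat.card (D ⊓ C[Z[g]] : Subgroup G) = 4 := by
  rw [S.inf_centralizer_refl hg hn, Nat.card_zpowers, S.orderOf_four (S.refl_sq hg hn)]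

/-- An element of `D` of order four squares to `z`. -/
theorem sq_of_four {g : G} (hg : g ∈ D) (h4 : orderOf g = 4) : g * g = σ ^ h := by
  by_cases hn : g ∈ Z[σ]
  · refine (S.eq_z (mul_mem hn hn) ?_).resolve_left fun e1 => ?_
    · rw [← pow_orderOf_eq_one g, h4, show (4 : ℕ) = 2 + 2 from rfl, pow_add, pow_two]
    · have := Nat.le_of_dvd two_pos (orderOf_dvd_of_pow_eq_one
        (show g ^ 2 = 1 by rw [pow_two]; exact e1))
      omega
  · exact S.refl_sq hg hn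

/-- The classes of the elements outside the rotations. -/
theorem refl_class {g : G} (hg : g ∈ D) (hn : g ∉ Z[σ]) :
    Fus D e g τ ∨ Fus D e g (σ * τ) := by
  obtain ⟨i, rfl⟩ := S.exists_refl hg hn
  have key : ∀ j : ℤ, σ ^ j * (σ ^ i * τ) * (σ ^ j)⁻¹ = σ ^ (i + 2 * j) * τ := fun j => by
    rw [← zpow_neg, mul_assoc, mul_assoc, S.τ_mul_rot, ← mul_assoc, ← mul_assoc, ← zpow_add,
      ← zpow_add]
    congr 2; ring
  rcases Int.even_or_odd i with ⟨c, hc⟩ | ⟨c, hc⟩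
  · left
    have h1 := fus_conj S.pair hg (D.zpow_mem S.σ_mem (-c))
    rw [key, show i + 2 * -c = 0 by omega, zpow_zero, one_mul] at h1
    exact h1
  · right
    have h1 := fus_conj S.pair hg (D.zpow_mem S.σ_mem (-c))
    rw [key, show i + 2 * -c = 1 by omega, zpow_one] at h1
    exact h1

/-- The representatives outside the rotations. -/
noncomputable def oth (_S : QuatData (M := M) B D e σ τ h) : Finset G :=
  (({τ} : Finset G).filter fun t => ¬ Fus D e t (σ ^ (h / 2))) ∪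
    ({σ * τ} : Finset G).filter fun t => ¬ Fus D e t (σ ^ (h / 2)) ∧ ¬ Fus D e t τ

theorem mem_oth {v : G} : v ∈ S.oth ↔ (v = τ ∧ ¬ Fus D e τ (σ ^ (h / 2))) ∨
    (v = σ * τ ∧ ¬ Fus D e (σ * τ) (σ ^ (h / 2)) ∧ ¬ Fus D e (σ * τ) τ) := by
  simp only [oth, mem_union, mem_filter, mem_singleton]
  constructor <;> rintro (⟨rfl, h1⟩ | ⟨rfl, h1⟩) <;> simp [h1]

theorem στ_not : σ * τ ∉ Z[σ] := by simpa using S.refl_not 1

theorem τ_ne : τ ≠ σ * τ := fun e1 => by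
  have h1 : σ = 1 := mul_eq_right.1 e1.symm
  have h2 := S.ordσ
  rw [h1, orderOf_one] at h2
  have := S.h_pos; omega

theorem oth_props {v : G} (hv : v ∈ S.oth) :
    v ∈ D ∧ v ∉ Z[σ] ∧ ¬ Fus D e v (σ ^ (h / 2)) := by
  rcases S.mem_oth.1 hv with ⟨rfl, h1⟩ | ⟨rfl, h1, -⟩
  · exact ⟨S.τ_mem, S.τ_not, h1⟩
  · exact ⟨D.mul_mem S.σ_mem S.τ_mem, S.στ_not, h1⟩

theorem oth_not_fus {u v : G} (hu : u ∈ S.oth) (hv : v ∈ S.oth) (h1 : Fus D e u v) : u = v := by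
  rcases S.mem_oth.1 hu with ⟨rfl, -⟩ | ⟨rfl, -, hn⟩ <;>
    rcases S.mem_oth.1 hv with ⟨rfl, -⟩ | ⟨rfl, -, hn'⟩
  · rfl
  · exact absurd h1.symm hn'
  · exact absurd h1 hn
  · rfl

theorem oth_card : S.oth.card = (if Fus D e τ (σ ^ (h / 2)) then 0 else 1) +
    (if Fus D e (σ * τ) (σ ^ (h / 2)) ∨ Fus D e (σ * τ) τ then 0 else 1) := by
  rw [oth, card_union_of_disjoint]
  · simp only [filter_singleton]
    split_ifs <;> simp_all
  · rw [disjoint_left]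
    intro a ha hb
    exact S.τ_ne ((mem_singleton.1 (mem_filter.1 ha).1).symm.trans
      (mem_singleton.1 (mem_filter.1 hb).1))

/-- The representatives of the nontrivial subsections. -/
noncomputable def reps (S : QuatData (M := M) B D e σ τ h) : Finset G :=
  insert (σ ^ h) ((Ico 1 h).image (fun i => σ ^ i) ∪ S.oth)

theorem mem_reps {v : G} :
    v ∈ S.reps ↔ v = σ ^ h ∨ (∃ i ∈ Ico 1 h, σ ^ i = v) ∨ v ∈ S.oth := by
  simp [reps]

theorem reps_mem {v : G} (hv : v ∈ S.reps) : v ∈ D ∧ v ≠ 1 := by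
  rcases S.mem_reps.1 hv with rfl | ⟨i, hi, rfl⟩ | hv
  · exact ⟨S.pow_mem_D h, S.z_ne_one⟩
  · obtain ⟨h1, h2⟩ := mem_Ico.1 hi
    exact ⟨S.pow_mem_D i, S.pow_ne_one h1 (by omega)⟩
  · obtain ⟨h1, h2, -⟩ := S.oth_props hv
    exact ⟨h1, fun e1 => h2 (e1 ▸ one_mem _)⟩

/-- Every nontrivial element of `D` is carried to a representative. -/
theorem exists_rep {u : G} (hu : u ∈ D) (hu1 : u ≠ 1) : ∃ v ∈ S.reps, Fus D e u v := by
  have hwrep : σ ^ (h / 2) ∈ S.reps := S.mem_reps.2 (Or.inr (Or.inl ⟨_, S.half_mem, rfl⟩))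
  by_cases hn : u ∈ Z[σ]
  · obtain ⟨i, hi⟩ := mem_powers_iff_mem_zpowers.2 hn
    have hi' : σ ^ (i % (2 * h)) = u := by rw [← S.ordσ, pow_mod_orderOf]; exact hi
    set j := i % (2 * h)
    have hj : j < 2 * h := Nat.mod_lt _ (by have := S.h_pos; omega)
    have hj0 : j ≠ 0 := fun e1 => hu1 (by rw [← hi', e1, pow_zero])
    rcases lt_trichotomy j h with h1 | h1 | h1
    · exact ⟨u, S.mem_reps.2 (Or.inr (Or.inl ⟨j, mem_Ico.2 ⟨by omega, h1⟩, hi'⟩)), Fus.refl u⟩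
    · exact ⟨u, S.mem_reps.2 (Or.inl (by rw [← hi', h1])), Fus.refl u⟩
    · refine ⟨σ ^ (2 * h - j), S.mem_reps.2 (Or.inr (Or.inl ⟨_, mem_Ico.2 (by omega), rfl⟩)), ?_⟩
      have h2 := fus_conj S.pair hu S.τ_mem
      rw [← hi', S.τ_rot'] at h2
      rw [show (σ ^ j)⁻¹ = σ ^ (2 * h - j) from inv_eq_of_mul_eq_one_right (by
        rw [← pow_add, Nat.add_sub_cancel' hj.le, S.pow_eq_one]), hi'] at h2
      exact h2
  by_cases hτ : Fus D e τ (σ ^ (h / 2))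
  · rcases S.refl_class hu hn with h1 | h1
    · exact ⟨_, hwrep, h1.trans hτ⟩
    by_cases hστ : Fus D e (σ * τ) (σ ^ (h / 2))
    · exact ⟨_, hwrep, h1.trans hστ⟩
    by_cases hστ' : Fus D e (σ * τ) τ
    · exact ⟨_, hwrep, (h1.trans hστ').trans hτ⟩
    exact ⟨_, S.mem_reps.2 (Or.inr (Or.inr (S.mem_oth.2 (Or.inr ⟨rfl, hστ, hστ'⟩)))), h1⟩
  · have hτrep : τ ∈ S.reps :=
      S.mem_reps.2 (Or.inr (Or.inr (S.mem_oth.2 (Or.inl ⟨rfl, hτ⟩))))
    rcases S.refl_class hu hn with h1 | h1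
    · exact ⟨_, hτrep, h1⟩
    by_cases hστ : Fus D e (σ * τ) (σ ^ (h / 2))
    · exact ⟨_, hwrep, h1.trans hστ⟩
    by_cases hστ' : Fus D e (σ * τ) τ
    · exact ⟨_, hτrep, h1.trans hστ'⟩
    exact ⟨_, S.mem_reps.2 (Or.inr (Or.inr (S.mem_oth.2 (Or.inr ⟨rfl, hστ, hστ'⟩)))), h1⟩

end QuatData

end CfsgLib.QuatDefect
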